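import Mathlib
import Cfsg.Prelude.Def_Classical
import Cfsg.Prelude.Def_SporadicB
import Cfsg.Agent.L4Q.Mat2
import Cfsg.Agent.L4Q.Link
import Cfsg.Agent.FW.Act
import Cfsg.Agent.Lyons.Tools
import Cfsg.Agent.Class.LinearBasic

/-! Groups with the 2-fusion system of `L₄(q)`, `q ≢ 3 (8)`: definitions.
Case (II): `-1` is a square in `F`; case (I): `q ≡ 7 (8)`. -/

set_option autoImplicit false
set_option linter.unusedSectionVars false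

namespace Cfsg.Agent.L4P

open Subgroup Cfsg Cfsg.Agent.PLocal.Amb Cfsg.Agent.Lyons Cfsg.Agent.FW Cfsg.Agent.L4Q
open scoped MatrixGroups commutatorElement

/-- the conclusion -/
def Concl (G : Type*) [Group G] : Prop :=
  (∃ (K : Type) (_ : Field K) (_ : Fintype K), Odd (Fintype.card K) ∧
      Nonempty (G ≃* Matrix.ProjectiveSpecialLinearGroup (Fin 4) K)) ∨
    (∃ (K : Type) (_ : Field K) (_ : Fintype K) (r : ℕ), Fintype.card K = r ^ 2 ∧ Odd r ∧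
      Nonempty (G ≃* Cfsg.PSU 4 K r))

section model

variable {F : Type*} [Field F]

/-- the map of the model group onto the centralizer of `diag(-1,-1,1,1)` in `L₄(F)` -/
def pr : HK F →* PSL(4, F) := (QuotientGroup.mk' (center SL(4, F))).comp psi

theorem pr_eq {x y : HK F} : pr x = pr y ↔ Sc x y := (mk_eq_iff _ _).trans (mat_smul_iff x y)

theorem su_pr [Finite F] (h2 : (2 : F) ≠ 0) : Su (pr : HK F →* PSL(4, F)) := by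
  have := Class.PSL_isSimpleGroup (ι := Fin 4) (F := F) (by simp)
  have e : ∀ g, Commute g (pr (t0 : HK F)) → ∃ k, pr k = g := fun g hg => by
    obtain ⟨g, rfl⟩ := QuotientGroup.mk_surjective g
    obtain ⟨l, hl⟩ := (mk_eq_iff (g * psi t0) (psi t0 * g)).1 hg
    rw [Matrix.SpecialLinearGroup.coe_mul, Matrix.SpecialLinearGroup.coe_mul, psi_t0] at hl
    obtain ⟨k, rfl⟩ := exists_psi_eq h2 g hl
    exact ⟨k, rfl⟩
  refine ⟨h2, fun _ _ => pr_eq, e, fun H hH => ?_⟩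
  have hn := Subgroup.normal_of_index_eq_two hH
  rcases hn.eq_bot_or_eq_top with r | r
  · have k : ∀ x : PSL(4, F), x * x = 1 := fun x => by
      rw [← mem_bot, ← r]; exact H.mul_self_mem_of_index_two hH x
    have := pr_eq.1 ((map_mul pr _ _).trans ((k (pr (i1 jS : HK F))).trans (map_one pr).symm))
    rw [← map_mul, show (jS * jS : SL(2, F)) = -1 from Subtype.ext jm_jm, i1_neg] at this
    exact not_sc_t0 h2 this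
  · rw [r, index_top] at hH; omega

/-- the element `diag(a, a⁻¹)`, times the exchange of the blocks if `s` -/
def dd (a : GL (Fin 2) F) (s : Bool) : HK F :=
  ⟨a.1, (a⁻¹).1, s, by rw [← Matrix.det_mul, Units.mul_inv, Matrix.det_one]⟩

@[simp] theorem dd_a (a : GL (Fin 2) F) (s : Bool) : (dd a s).a = a.1 := rfl
@[simp] theorem dd_b (a : GL (Fin 2) F) (s : Bool) : (dd a s).b = (a⁻¹).1 := rfl
@[simp] theorem dd_s (a : GL (Fin 2) F) (s : Bool) : (dd a s).s = s := rfl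

theorem dd_one : dd (1 : GL (Fin 2) F) true = ws := by ext1 <;> simp
theorem dd_sq (a : GL (Fin 2) F) : dd a true * dd a true = 1 := by ext1 <;> simp
theorem dd_ws (a : GL (Fin 2) F) : dd a true * ws = dd a false := by ext1 <;> simp

/-- the matrix `a` lies in `Γ` -/
def Gm (Γ : Subgroup (GL (Fin 2) F)) (a : M2 F) : Prop := ∃ g ∈ Γ, g.1 = a

variable {Γ : Subgroup (GL (Fin 2) F)} {a b : M2 F}

theorem Gm.mul (h : Gm Γ a) (h' : Gm Γ b) : Gm Γ (a * b) := by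
  obtain ⟨g, hg, rfl⟩ := h
  obtain ⟨g', hg', rfl⟩ := h'
  exact ⟨_, mul_mem hg hg', rfl⟩

theorem Gm.one : Gm Γ 1 := ⟨1, one_mem _, rfl⟩

theorem Gm.of {g : GL (Fin 2) F} (h : g ∈ Γ) : Gm Γ g.1 := ⟨g, h, rfl⟩

theorem Gm.inv (h : Gm Γ a) (e : b * a = 1) : Gm Γ b := by
  obtain ⟨g, hg, rfl⟩ := h
  exact ⟨_, inv_mem hg, (Units.eq_inv_of_mul_eq_one_right e).symm⟩

theorem gm_iff {g : GL (Fin 2) F} : Gm Γ g.1 ↔ g ∈ Γ :=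
  ⟨fun ⟨_, h, e⟩ => Units.ext e ▸ h, Gm.of⟩

/-- the elements of the model group with both blocks in `Γ` -/
def AA (Γ : Subgroup (GL (Fin 2) F)) : Subgroup (HK F) where
  carrier := {k | Gm Γ k.a ∧ Gm Γ k.b}
  one_mem' := ⟨Gm.one, Gm.one⟩
  mul_mem' := by
    rintro ⟨_, _, _ | _, _⟩ y ⟨h1, h2⟩ ⟨h3, h4⟩
    exacts [⟨h1.mul h3, h2.mul h4⟩, ⟨h1.mul h4, h2.mul h3⟩]
  inv_mem' := by
    rintro x ⟨h1, h2⟩
    have e1 := congrArg HK.a (inv_mul_cancel x)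
    have e2 := congrArg HK.b (inv_mul_cancel x)
    rcases x with ⟨_, _, _ | _, _⟩
    exacts [⟨h1.inv e1, h2.inv e2⟩, ⟨h2.inv e1, h1.inv e2⟩]

theorem mem_AA {k : HK F} : k ∈ AA Γ ↔ Gm Γ k.a ∧ Gm Γ k.b := Iff.rfl

/-- the generalized quaternion group `Γ ∩ SL₂` -/
def Q1 (Γ : Subgroup (GL (Fin 2) F)) : Subgroup SL(2, F) := Γ.comap tg

theorem mem_Q1 {X : SL(2, F)} : X ∈ Q1 Γ ↔ Gm Γ X.1 := (gm_iff (g := tg X)).symm
theorem i1_AA {X : SL(2, F)} : i1 X ∈ AA Γ ↔ X ∈ Q1 Γ :=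
  ⟨fun h => mem_Q1.2 h.1, fun h => ⟨mem_Q1.1 h, Gm.one⟩⟩
theorem i2_AA {X : SL(2, F)} : i2 X ∈ AA Γ ↔ X ∈ Q1 Γ :=
  ⟨fun h => mem_Q1.2 h.2, fun h => ⟨Gm.one, mem_Q1.1 h⟩⟩
theorem dd_AA {g : GL (Fin 2) F} (h : g ∈ Γ) (s : Bool) : dd g s ∈ AA Γ := ⟨.of h, .of (inv_mem h)⟩
theorem ws_AA : ws ∈ AA Γ := ⟨Gm.one, Gm.one⟩

/-- the Sylow 2-subgroup `Γ` of `GL₂(F)`; it normalizes `⟨I⟩`, and `D ∈ C(I)` has nonsquare determinant -/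
structure Sy [Fintype F] (Γ : Subgroup (GL (Fin 2) F)) (I J : SL(2, F)) (D : GL (Fin 2) F) : Prop where
  two : (2 : F) ≠ 0
  m8 : Fintype.card F % 8 ≠ 3
  sylΓ : IsSyl 2 Γ ⊤
  sylA : IsSyl 2 (AA Γ) ⊤
  ty : (∃ ι l : F, ι * ι = -1 ∧ I.1 = ι • rm ∧ J = jS ∧ D.1 = !![l, 0; 0, 1]) ∨
    (¬ IsSquare (-1 : F) ∧ I = jS ∧ J.1 = rm * D.1 ∧ D.1.det = -1)
  II : I * I = -1
  JJ : J * J = -1
  JI : J * I = -(I * J)
  mI : I ∈ Q1 Γ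
  mJ : J ∈ Q1 Γ
  mD : D ∈ Γ
  mj : jS ∈ Q1 Γ
  mr : Gm Γ rm
  nrm : ∀ a, Gm Γ a → a * I.1 = I.1 * a ∨ a * I.1 = -(I.1 * a)
  tor : ∀ (a : M2 F) (n : ℕ), a * I.1 = I.1 * a → a ^ 2 ^ n = 1 → Gm Γ a
  DI : D.1 * I.1 = I.1 * D.1
  Dn : ¬ IsSquare D.1.det

end model

variable {G : Type*} [Group G]

/-- the image of `U` under `κ` -/
def im {F : Type*} [Field F] (κ : HK F → G) (U : Subgroup (HK F)) : Subgroup G := closure (κ '' U)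

/-- `κ` restricted to `AA Γ` is a homomorphism onto a Sylow 2-subgroup with kernel the scalars -/
structure Hm {F : Type*} [Field F] [Fintype F] (Γ : Subgroup (GL (Fin 2) F)) (I J : SL(2, F))
    (D : GL (Fin 2) F) (κ : HK F → G) : Prop extends Sy Γ I J D where
  mul : ∀ x ∈ AA Γ, ∀ y ∈ AA Γ, κ (x * y) = κ x * κ y
  eq : ∀ x ∈ AA Γ, ∀ y ∈ AA Γ, κ x = κ y ↔ Sc x y
  syl : IsSyl 2 (im κ (AA Γ)) ⊤

/-- `G` has the 2-fusion system of `L₄(F)` -/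
structure Mo {F : Type*} [Field F] [Fintype F] (Γ : Subgroup (GL (Fin 2) F)) (I J : SL(2, F))
    (D : GL (Fin 2) F) (κ : HK F → G) : Prop extends Hm Γ I J D κ where
  fw : ∀ g : G, ∃ g₀ : PSL(4, F), ∀ x ∈ AA Γ, ∀ y ∈ AA Γ,
    g * κ x * g⁻¹ = κ y → g₀ * pr x * g₀⁻¹ = pr y
  bw : ∀ g₀ : PSL(4, F), ∃ g : G, ∀ x ∈ AA Γ, ∀ y ∈ AA Γ,
    g₀ * pr x * g₀⁻¹ = pr y → g * κ x * g⁻¹ = κ y

/-- the situation in `C(z) / O(C(z))` -/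
structure XB {F : Type*} [Field F] [Fintype F] (Γ : Subgroup (GL (Fin 2) F)) (I J : SL(2, F))
    (D : GL (Fin 2) F) (β : HK F → G) : Prop extends Hm Γ I J D β where
  cen : ∀ c, Commute c (β t0)
  core : oddCore G = ⊥
  fw : ∀ g : G, ∃ c : HK F, ∀ x ∈ AA Γ, ∀ y ∈ AA Γ, g * β x * g⁻¹ = β y → Sc (c * x * c⁻¹) y
  bw : ∀ c : HK F, ∃ g : G, ∀ x ∈ AA Γ, ∀ y ∈ AA Γ, Sc (c * x * c⁻¹) y → g * β x * g⁻¹ = β y

/-- the two components (or the two normal `SL₂(3)` of `O²`) -/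
structure St {F : Type*} [Field F] [Fintype F] (Γ : Subgroup (GL (Fin 2) F)) (β : HK F → G)
    (L : Subgroup G) : Prop where
  nL : ∀ c, cj(c, L) = L ∨ cj(c, L) = cj(β ws, L)
  le1 : ∀ X ∈ Q1 Γ, β (i1 X) ∈ L
  mem1 : ∀ k ∈ AA Γ, β k ∈ L → ∃ X ∈ Q1 Γ, Sc k (i1 X)
  comm : L ≤ 𝐂[cj(β ws, L)]
  iso : (∃ (K : Type) (_ : Field K) (_ : Fintype K), Odd (Fintype.card K) ∧ Nonempty (L ≃* SL(2, K))) ∨
    (⁅L, L⁆ = L ∧ IsNonsplitDoubleCover L (alternatingGroup (Fin 7)))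

section abstr

variable {K : Type*} [Field K]

/-- `c` normalizes the image of `φ` -/
def Nr (φ : SL(2, K) →* G) (c : G) : Prop := ∃ M σ, ActS φ c M σ

/-- `c` centralizes the image of `φ` -/
def Ce (φ : SL(2, K) →* G) (c : G) : Prop := ∀ A, Commute c (φ A)

/-- `L₁ L₂` -/
abbrev JL (φ : SL(2, K) →* G) (w : G) : Subgroup G := φ.range ⊔ (cjh w φ).range

/-- the subgroups `L₁ = φ.range` and `L₂ = L₁ ^ w` of the centralizer of `z = φ (-1)` -/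
structure JS [Fintype K] [Finite G] (φ : SL(2, K) →* G) (w : G) : Prop where
  odd : Odd (Fintype.card K)
  inj : Function.Injective φ
  ww : w * w = 1
  wz : Commute w (φ (-1))
  comm : ∀ A B, Commute (φ A) (cjh w φ B)
  inter : ∀ A B, φ A = cjh w φ B → A = 1 ∨ A = -1
  act : ∀ c, Commute c (φ (-1)) → Nr φ c ∨ Nr φ (w * c)
  lin : ∀ c M σ n, c ^ 2 ^ n = 1 → ActS φ c M σ → σ = 1
  ker : ∀ c, Odd (orderOf c) → Ce φ c → Ce (cjh w φ) c → c ∈ oc 𝐳[φ (-1)]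
  uq : ∀ c, c * c = 1 → Ce φ c → Ce (cjh w φ) c → c = 1 ∨ c = φ (-1)

/-- the core-free situation with `z` central -/
structure XS [Fintype K] [Finite G] (φ : SL(2, K) →* G) (w : G) : Prop extends JS φ w where
  cen : ∀ c, Commute c (φ (-1))
  core : oddCore G = ⊥

/-- the link between the Sylow subgroup and `L₁` -/
structure LK {F : Type*} [Field F] (Γ : Subgroup (GL (Fin 2) F)) (D : GL (Fin 2) F) (κ : HK F → G)
    (φ : SL(2, K) →* G) : Prop where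
  neg : φ (-1) = κ t0
  l1 : ∀ X ∈ Q1 Γ, κ (i1 X) ∈ φ.range
  l2 : ∀ k ∈ AA Γ, κ k ∈ φ.range → ∃ X ∈ Q1 Γ, Sc k (i1 X)
  nr : ∀ k ∈ AA Γ, Nr φ (κ k) ↔ k.s = false
  out : ∀ M, ActG φ (κ (dd D false)) M → ¬ IsSquare M.1.det

/-- 2-elements centralizing `L₁` lie in `L₂` -/
def Cq (φ : SL(2, K) →* G) (w : G) : Prop :=
  ∀ c n, c ^ 2 ^ n = 1 → Ce φ c → c ∈ (cjh w φ).range

/-- elements of order 4 of `SL₂(K)` have 2-groups as centralizers -/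
def Spc (K : Type*) [Field K] : Prop :=
  ∀ A c : SL(2, K), A * A = -1 → Commute c A → Odd (orderOf c) → c = 1

variable [Finite G]

open Classical in
/-- the image in `C(z) / O(C(z))` -/
noncomputable def br (z g : G) : 𝐳[z] ⧸ oddCore 𝐳[z] :=
  if h : g ∈ 𝐳[z] then QuotientGroup.mk ⟨g, h⟩ else 1

/-- balance -/
def Bl (a b : G) : Prop := oc 𝐳[b] ⊓ 𝐳[a] ≤ oc 𝐳[a]

/-- `γ` centralizes the image of `O(C(y)) ∩ C(a)` in `C(a) / O(C(a))` -/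
def KL (a γ y : G) : Prop := ⁅oc 𝐳[y] ⊓ 𝐳[a], zpowers γ⁆ ≤ oc 𝐳[a]

/-- the signalizer functor -/
def th (c a : G) : Subgroup G := ⁅oc 𝐳[c], zpowers a⁆ ⊔ (oc 𝐳[c] ⊓ oc 𝐳[a])

/-- the closure of the signalizer functor -/
def WW (z y : G) : Subgroup G := th z y ⊔ th y z ⊔ th (y * z) z

/-- three involutions `a, b, t` acting on `O(C(c))` as a four-group -/
structure Tri (c a b t : G) : Prop where
  aa : a * a = 1
  bb : b * b = 1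
  ab : Commute a b
  ca : Commute c a
  cb : Commute c b
  ht : t = a * b ∨ t = a * b * c
  b1 : Bl a b
  b2 : Bl b a
  b3 : Bl b t
  k1 : KL a b c
  k2 : KL b a c
  k3 : KL t b c

/-- the elements of `⟨z, y₁, y₂⟩ ∖ ⟨z⟩` -/
def YY (z y₁ y₂ : G) : Set G := {y₁, y₁ * z, y₂, y₂ * z, y₁ * y₂, y₁ * y₂ * z}

/-- the hypotheses of the signalizer argument on `⟨z, y₁, y₂⟩` -/
structure Sg (z y₁ y₂ : G) : Prop where
  zz : z * z = 1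
  y1 : y₁ * y₁ = 1
  y2 : y₂ * y₂ = 1
  c1 : Commute z y₁
  c2 : Commute z y₂
  c3 : Commute y₁ y₂
  z1 : z ≠ 1
  ne : ∀ y ∈ YY z y₁ y₂, y ≠ 1
  hd : ∀ y ∈ YY z y₁ y₂, ∀ y' ∈ YY z y₁ y₂, y' ≠ y → y' ≠ y * z → Bl y y' ∧ KL y y' z
  hb : ∀ y ∈ YY z y₁ y₂, ⁅oc 𝐳[y], zpowers z⁆ ⊓ 𝐳[z] ≤ oc 𝐳[z]

/-- a swap with respect to the components of `C(z) / O(C(z))` -/
def Sw (z : G) (φ : SL(2, K) →* 𝐳[z] ⧸ oddCore 𝐳[z]) (s : G) : Prop :=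
  s * s = 1 ∧ Commute s z ∧ ¬ Nr φ (br z s)

/-- an involution mapping to `φ A · ψ B` with `A² = B² = -1` -/
def In (z : G) (φ : SL(2, K) →* 𝐳[z] ⧸ oddCore 𝐳[z]) (w : 𝐳[z] ⧸ oddCore 𝐳[z]) (y : G) : Prop :=
  y * y = 1 ∧ Commute y z ∧ ∃ A B, A * A = -1 ∧ B * B = -1 ∧ br z y = φ A * cjh w φ B

/-- the centralizer of an involution `u` whose preimage in `SL₄` has order 4 (case (I)):
`T = (D × Z)⟨v⟩`, `D = ⟨n, n'⟩` is dihedral with central involution `ζ` -/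
structure HD (u : G) (T D Z : Subgroup G) (ζ n n' v m m' : G) : Prop where
  syl : IsSyl 2 T 𝐳[u]
  res : T ⊓ 𝐎[2, 𝐳[u]] ≤ D
  DT : D ≤ T
  ZT : Z ≤ T
  vT : v ∈ T
  gen : D = closure {n, n'}
  nn : n * n = 1
  nn' : n' * n' = 1
  big : (n * n') ^ 4 ≠ 1
  ζD : ζ ∈ D
  ζζ : ζ * ζ = 1
  ζ1 : ζ ≠ 1
  ζT : ζ ∈ 𝐂[T]
  vv : v * v = 1
  vD : v ∈ 𝐂[D]
  mu : m ∈ 𝐳[u]
  mu' : m' ∈ 𝐳[u]
  mζ : m * ζ * m⁻¹ = ζ * n
  mζ' : m' * ζ * m'⁻¹ = ζ * n'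
  mv : m * v * m⁻¹ = v * n
  mv' : m' * (v * ζ) * m'⁻¹ = v * ζ * n'
  cyc : IsCyclic Z
  sc : ∀ e ∈ Z, ∀ g ∈ 𝐳[u], g * e * g⁻¹ ∈ T → g * e * g⁻¹ ∈ Z

/-- the data for the final identification; `z = φ (-1)`, `V = {1, z, n, n z}` -/
structure EG [Fintype K] (φ : SL(2, K) →* G) (w n ρ : G) (J₀ : SL(2, K)) : Prop extends JS φ w where
  big : 3 < Fintype.card K
  JJ : J₀ * J₀ = -1
  nn : n * n = 1
  nw : Commute n w
  nr : Nr φ n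
  sn : φ J₀ * n * (φ J₀)⁻¹ = n * φ (-1)
  r1 : ρ * φ (-1) * ρ⁻¹ = n
  r2 : ρ * n * ρ⁻¹ = n * φ (-1)
  r3 : ρ * (φ J₀ * cjh w φ J₀) * ρ⁻¹ = w * (n * φ (-1))
  r4 : ρ * w * ρ⁻¹ = w * (φ J₀ * cjh w φ J₀) * n
  nO : ∀ o ∈ oc 𝐳[φ (-1)], Commute n o
  JO : ∀ o ∈ oc 𝐳[φ (-1)], Ce φ o
  nJ : n ∈ JL φ w ∨ Cq φ w
  top : ∀ M : Subgroup G, 𝐳[φ (-1)] ≤ M → ρ ∈ M → M = ⊤

/-- the cyclic 2-group `Z = {diag(l, l, l, l⁻³)}` (case `q ≡ 1 (8)`) -/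
structure ZF (φ : SL(2, K) →* G) (w n ρ : G) (Z : Subgroup G) : Prop where
  two : IsPGroup 2 Z
  ab : Z ≤ 𝐂[Z]
  L : ∀ A, φ A ∈ 𝐂[Z]
  rh : ρ ∈ 𝐂[Z]
  zn : φ (-1) ∉ Z
  fus : ∀ c ∈ 𝐂[Z], c * φ (-1) * c⁻¹ * (φ (-1))⁻¹ ∈ Z → Commute c (φ (-1))
  nr : ∀ c ∈ 𝐂[Z], Commute c (φ (-1)) → Nr φ c
  uq : ∀ s ∈ 𝐂[Z], Ce φ s → s * s ∈ Z → s ∈ Z ∨ s * φ (-1) ∈ Z
  cm : ∀ c ∈ 𝐂[Z], Commute c (φ (-1)) → ∀ s ∈ 𝐂[Z], Ce φ s → s * s * φ (-1) ∈ Z → Commute c s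
  tau : ∃ τ ∈ Z, Ce (cjh w φ) (τ * n⁻¹)

end abstr

/-- the elements `diag(l, l, l, l⁻³)` of `AA Γ` -/
def Zs {F : Type*} [Field F] (Γ : Subgroup (GL (Fin 2) F)) : Subgroup (HK F) where
  carrier := {k | k ∈ AA Γ ∧ ∃ l m h, k = dg l l l m h}
  one_mem' := ⟨one_mem _, 1, 1, by simp, by ext1 <;> simp [mm]⟩
  mul_mem' := by
    rintro _ _ ⟨h1, l, m, h, rfl⟩ ⟨h2, l', m', h', rfl⟩
    exact ⟨mul_mem h1 h2, l * l', m * m', by grind, by ext1 <;> simp [mm]⟩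
  inv_mem' := by
    rintro _ ⟨h1, l, m, h, rfl⟩
    refine ⟨inv_mem h1, l * m * l, l * l * l, by grind, ?_⟩
    ext1 <;> simp [HK.inv_a, HK.inv_b, mm]
    ring

end Cfsg.Agent.L4P
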