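import Mathlib
import Cfsg.Agent.L4P.Defs
import Cfsg.Agent.CT.AutSL2

/-! Basic lemmas on the structures of `L4P/Defs`. -/

set_option autoImplicit false
set_option linter.unusedSectionVars false

namespace Cfsg.Agent.L4P

open Subgroup Cfsg Cfsg.Agent.PLocal.Amb Cfsg.Agent.Lyons Cfsg.Agent.FW Cfsg.Agent.L4Q
open scoped MatrixGroups commutatorElement

theorem sc_symm {F : Type*} [Field F] {x y : HK F} (h : Sc x y) : Sc y x := pr_eq.1 (pr_eq.2 h).symm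
theorem sc_trans {F : Type*} [Field F] {x y u : HK F} (h : Sc x y) (h' : Sc y u) : Sc x u :=
  pr_eq.1 ((pr_eq.2 h).trans (pr_eq.2 h'))
theorem sc_mul {F : Type*} [Field F] {x y u v : HK F} (h : Sc x y) (h' : Sc u v) :
    Sc (x * u) (y * v) := pr_eq.1 (by rw [map_mul, map_mul, pr_eq.2 h, pr_eq.2 h'])
theorem sc_s {F : Type*} [Field F] {x y : HK F} (h : Sc x y) : x.s = y.s := h.elim fun _ h => h.2.2

variable {F : Type*} [Field F] [Fintype F] {Γ : Subgroup (GL (Fin 2) F)} {I J : SL(2, F)}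
  {D : GL (Fin 2) F} {G : Type*} [Group G] {κ : HK F → G} {x y k : HK F} {a : M2 F}

namespace Sy

variable (h : Sy Γ I J D)
include h

theorem scal {l : F} {n : ℕ} (e : l ^ 2 ^ n = 1) : Gm Γ (l • 1) :=
  h.tor _ n (by simp) (by rw [_root_.smul_pow, e]; simp)

theorem smul {l : F} {n : ℕ} (e : l ^ 2 ^ n = 1) (ha : Gm Γ a) : Gm Γ (l • a) := by
  simpa using (h.scal e).mul ha

theorem neg (ha : Gm Γ a) : Gm Γ (-a) := by simpa using h.smul (l := -1) (n := 1) (by simp) ha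

theorem sat (e : Sc x y) (hy : y ∈ AA Γ) : x ∈ AA Γ := by
  obtain ⟨l, h1, h2, -⟩ := e
  have := sc_pow h1 h2
  exact ⟨h1 ▸ h.smul (n := 2) this hy.1, h2 ▸ h.smul (n := 2) this hy.2⟩

theorem neg_Q : -1 ∈ Q1 Γ := mem_Q1.2 (h.neg Gm.one)
theorem t0_AA : t0 ∈ AA Γ := i1_AA.2 h.neg_Q
theorem t2_AA : t2 ∈ AA Γ := ⟨h.mr, h.mr⟩
theorem jj_AA : jj ∈ AA Γ := ⟨mem_Q1.1 h.mj, mem_Q1.1 h.mj⟩
theorem odd : Odd (Fintype.card F) := odd_card h.two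
theorem su : Su (pr : HK F →* PSL(4, F)) := su_pr h.two

/-- elements of `Γ` are 2-elements -/
theorem pow (ha : Gm Γ a) : ∃ n, a ^ 2 ^ n = 1 := by
  obtain ⟨g, hg, rfl⟩ := ha
  obtain ⟨n, hn⟩ := h.sylΓ.pgrp ⟨g, hg⟩
  exact ⟨n, by simpa using congrArg (fun x : Γ => x.1.1) hn⟩

theorem det_pow (ha : Gm Γ a) : ∃ n, a.det ^ 2 ^ n = 1 :=
  (h.pow ha).imp fun n e => by rw [← Matrix.det_pow, e, Matrix.det_one]

theorem nrm' {X : SL(2, F)} (hX : X ∈ Q1 Γ) : X * I = I * X ∨ X * I = -(I * X) :=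
  (h.nrm _ (mem_Q1.1 hX)).imp (fun e => Subtype.ext e) fun e => Subtype.ext e

end Sy

namespace Hm

variable (h : Hm Γ I J D κ)
include h

theorem one : κ 1 = 1 := by simpa using h.mul 1 (one_mem _) 1 (one_mem _)

/-- the homomorphism -/
def hom : AA Γ →* G := MonoidHom.mk' (fun x => κ x) fun x y => h.mul _ x.2 _ y.2

theorem hom_apply (x : AA Γ) : h.hom x = κ x := rfl

theorem inv (hx : x ∈ AA Γ) : κ x⁻¹ = (κ x)⁻¹ := map_inv h.hom ⟨x, hx⟩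
theorem pow (hx : x ∈ AA Γ) (n : ℕ) : κ (x ^ n) = κ x ^ n := map_pow h.hom ⟨x, hx⟩ n

theorem conj (hx : x ∈ AA Γ) (hy : y ∈ AA Γ) : κ (x * y * x⁻¹) = κ x * κ y * (κ x)⁻¹ := by
  rw [h.mul _ (mul_mem hx hy) _ (inv_mem hx), h.mul _ hx _ hy, h.inv hx]

theorem im_eq {U : Subgroup (HK F)} (hU : U ≤ AA Γ) : im κ U = (U.subgroupOf (AA Γ)).map h.hom :=
  le_antisymm ((closure_le _).2 (by rintro _ ⟨u, hu, rfl⟩; exact ⟨⟨u, hU hu⟩, hu, rfl⟩))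
    (by rintro _ ⟨u, hu, rfl⟩; exact subset_closure ⟨u, hu, rfl⟩)

theorem mem_im {U : Subgroup (HK F)} (hU : U ≤ AA Γ) {g : G} : g ∈ im κ U ↔ ∃ u ∈ U, κ u = g := by
  rw [h.im_eq hU]
  exact ⟨fun ⟨u, hu, e⟩ => ⟨u, hu, e⟩, fun ⟨u, hu, e⟩ => ⟨⟨u, hU hu⟩, hu, e⟩⟩

theorem mem_S {g : G} : g ∈ im κ (AA Γ) ↔ ∃ u ∈ AA Γ, κ u = g := h.mem_im le_rfl

theorem eq_pr (hx : x ∈ AA Γ) (hy : y ∈ AA Γ) : κ x = κ y ↔ pr x = pr y := (h.eq _ hx _ hy).trans pr_eq.symm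

theorem of_sc (hy : y ∈ AA Γ) (e : Sc x y) : κ x = κ y := (h.eq _ (h.sat e hy) _ hy).2 e

theorem one_iff (hx : x ∈ AA Γ) : κ x = 1 ↔ Sc x 1 := by rw [← h.eq _ hx _ (one_mem _), h.one]

theorem comm_iff (hx : x ∈ AA Γ) (hy : y ∈ AA Γ) : Commute (κ x) (κ y) ↔ Sc (x * y) (y * x) := by
  rw [← h.eq _ (mul_mem hx hy) _ (mul_mem hy hx), h.mul _ hx _ hy, h.mul _ hy _ hx]; rfl

theorem comm_of (hx : x ∈ AA Γ) (hy : y ∈ AA Γ) (e : Commute x y) : Commute (κ x) (κ y) :=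
  (h.comm_iff hx hy).2 (e.eq ▸ Sc.refl _)

theorem sq_iff (hx : x ∈ AA Γ) : κ x * κ x = 1 ↔ Sc (x * x) 1 := by
  rw [← h.mul _ hx _ hx, h.one_iff (mul_mem hx hx)]

theorem conj_iff {u : HK F} (hx : x ∈ AA Γ) (hy : y ∈ AA Γ) (hu : u ∈ AA Γ) :
    κ x * κ y * (κ x)⁻¹ = κ u ↔ Sc (x * y * x⁻¹) u := by
  rw [← h.conj hx hy, h.eq _ (mul_mem (mul_mem hx hy) (inv_mem hx)) _ hu]

theorem zz : κ t0 * κ t0 = 1 := (h.sq_iff h.t0_AA).2 (t0_sq (F := F) ▸ Sc.refl _)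
theorem z1 : κ t0 ≠ 1 := mt (h.one_iff h.t0_AA).1 (not_sc_t0 h.two)
theorem cz (hx : x ∈ AA Γ) : Commute (κ x) (κ t0) := (h.comm_iff hx h.t0_AA).2 (sc_t0 x)
theorem ww : κ ws * κ ws = 1 := by rw [← h.mul _ ws_AA _ ws_AA, ws_ws, h.one]
theorem nn : κ t2 * κ t2 = 1 := by rw [← h.mul _ h.t2_AA _ h.t2_AA, t2_t2, h.one]
theorem i2_neg : κ (i2 (-1)) = κ t0 := h.of_sc h.t0_AA ⟨-1, by simp⟩

theorem w_i1 {X : SL(2, F)} (hX : X ∈ Q1 Γ) : κ ws * κ (i1 X) * (κ ws)⁻¹ = κ (i2 X) := by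
  rw [← h.conj ws_AA (i1_AA.2 hX), ws_i1]

theorem two_el (hx : x ∈ AA Γ) : ∃ n, κ x ^ 2 ^ n = 1 := by
  obtain ⟨n, hn⟩ := h.syl.pgrp ⟨κ x, h.mem_S.2 ⟨x, hx, rfl⟩⟩
  exact ⟨n, congrArg Subtype.val hn⟩

variable [Finite G]

theorem sylC : IsSyl 2 (im κ (AA Γ)) 𝐳[κ t0] := h.syl.mono (fun g hg => by
  obtain ⟨u, hu, rfl⟩ := h.mem_S.1 hg
  exact mem_cent.2 (h.cz hu).symm) le_top

/-- a 2-subgroup of `C(z)` is conjugate in `C(z)` to a subgroup of `S` -/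
theorem exists_cj {P : Subgroup G} (hP : IsPGroup 2 P) (hz : P ≤ 𝐳[κ t0]) :
    ∃ g, Commute g (κ t0) ∧ ∀ p ∈ P, ∃ k ∈ AA Γ, g * p * g⁻¹ = κ k := by
  obtain ⟨g, hg, e⟩ := h.sylC.exists_cj_le hP hz
  exact ⟨g, (mem_cent.1 hg).symm, fun p hp =>
    (h.mem_S.1 (e (conj_mem_cj g hp))).imp fun _ r => ⟨r.1, r.2.symm⟩⟩

theorem exists_cj_el {c : G} {n : ℕ} (hc : c ^ 2 ^ n = 1) (hz : Commute c (κ t0)) :
    ∃ g, Commute g (κ t0) ∧ ∃ k ∈ AA Γ, g * c * g⁻¹ = κ k := by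
  obtain ⟨g, hg, -, ⟨k, hk, e⟩⟩ : ∃ g ∈ 𝐳[κ t0], True ∧ ∃ k ∈ AA Γ, κ k = g * c * g⁻¹ := by
    obtain ⟨g, hg, e⟩ := exists_conj_mem h.sylC (mem_cent.2 hz.symm) hc
    exact ⟨g, hg, trivial, h.mem_S.1 e⟩
  exact ⟨g, (mem_cent.1 hg).symm, k, hk, e.symm⟩

end Hm

namespace Mo

variable (h : Mo Γ I J D κ)
include h

/-- elements of `C(z)` are realized in the model group -/
theorem fwC {g : G} (hg : Commute g (κ t0)) : ∃ c : HK F, ∀ x ∈ AA Γ, ∀ y ∈ AA Γ,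
    g * κ x * g⁻¹ = κ y → Sc (c * x * c⁻¹) y := by
  obtain ⟨g₀, e⟩ := h.fw g
  obtain ⟨c, rfl⟩ := h.su.cent g₀ (comm_of_cj (e _ h.t0_AA _ h.t0_AA (cj_eq hg)))
  exact ⟨c, fun x hx y hy r => pr_eq.1 (by rw [map_mul, map_mul, map_inv, e x hx y hy r])⟩

theorem bwC (c : HK F) : ∃ g : G, Commute g (κ t0) ∧ ∀ x ∈ AA Γ, ∀ y ∈ AA Γ,
    Sc (c * x * c⁻¹) y → g * κ x * g⁻¹ = κ y := by
  obtain ⟨g, e⟩ := h.bw (pr c)
  exact ⟨g, comm_of_cj (e _ h.t0_AA _ h.t0_AA (cj_eq (h.su.comm c))), fun x hx y hy r =>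
    e x hx y hy (by rw [← map_inv, ← map_mul, ← map_mul, pr_eq.2 r])⟩

theorem isConj_iff' (hx : x ∈ AA Γ) (hy : y ∈ AA Γ) : IsConj (κ x) (κ y) ↔ IsConj (pr x) (pr y) := by
  simp only [isConj_iff]
  exact ⟨fun ⟨g, e⟩ => (h.fw g).imp fun _ r => r x hx y hy e,
    fun ⟨g, e⟩ => (h.bw g).imp fun _ r => r x hx y hy e⟩

end Mo

section abstr

variable {K : Type*} [Field K] {φ : SL(2, K) →* G} {w c c' s : G}

theorem Nr.mul (h : Nr φ c) (h' : Nr φ c') : Nr φ (c * c') := by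
  obtain ⟨_, _, h⟩ := h
  obtain ⟨_, _, h'⟩ := h'
  exact ⟨_, _, h.mul h'⟩

theorem Nr.inv (h : Nr φ c) : Nr φ c⁻¹ := by
  obtain ⟨_, _, h⟩ := h
  exact ⟨_, _, h.inv⟩

theorem Nr.of_actG {M : GL (Fin 2) K} (h : ActG φ c M) : Nr φ c := ⟨M, 1, actS_one.2 h⟩
theorem Ce.nr (h : Ce φ c) : Nr φ c := .of_actG (actG_of_comm h)
theorem nr_self (A : SL(2, K)) : Nr φ (φ A) := .of_actG (actG_self A)
theorem nr_one : Nr φ 1 := .of_actG actG_one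
theorem Nr.ex (h : Nr φ c) (A : SL(2, K)) : ∃ A', c * φ A * c⁻¹ = φ A' := by
  obtain ⟨_, _, h⟩ := h
  exact ⟨_, h A⟩
theorem Nr.cz (h : Nr φ c) : Commute c (φ (-1)) := by
  obtain ⟨_, _, h⟩ := h
  exact h.comm_j
theorem Nr.cjh (h : Nr φ c) (g : G) : Nr (cjh g φ) (g * c * g⁻¹) := by
  obtain ⟨_, _, h⟩ := h
  exact ⟨_, _, h.cjh g⟩
theorem Nr.pow (h : Nr φ c) (n : ℕ) : Nr φ (c ^ n) := by
  obtain ⟨_, _, h⟩ := h
  exact (h.pow n).imp fun _ e => ⟨_, e⟩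

theorem nr_of [Finite K] (hφ : Function.Injective φ) (h : ∀ A, ∃ A', c * φ A * c⁻¹ = φ A') :
    Nr φ c := by
  choose f hf using h
  let α : SL(2, K) →* SL(2, K) := MonoidHom.mk' f fun A B => hφ (by
    rw [map_mul, ← hf, ← hf, ← hf, map_mul, conj_mul])
  have hα : Function.Injective α := fun A B e => hφ (by
    have : c * φ A * c⁻¹ = c * φ B * c⁻¹ := by rw [hf, hf]; exact congrArg φ e
    simpa using this)
  obtain ⟨g, τ, hg⟩ := CT.aut_SL2 (MulEquiv.ofBijective α (Finite.injective_iff_bijective.1 hα))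
  exact ⟨g, τ, fun A => (hf A).trans (congrArg φ (Subtype.ext (hg A)))⟩

theorem nr_iff [Finite K] [Finite G] (hφ : Function.Injective φ) : Nr φ c ↔ c ∈ 𝐍[φ.range] :=
  ⟨fun h => mem_normalizer_of_cj_le (cj_le_iff_forall.2 (by
      rintro _ ⟨A, rfl⟩; exact (h.ex A).imp fun _ e => e.symm)),
    fun h => nr_of hφ fun A => (conj_mem_of_mem_normalizer h ⟨A, rfl⟩).imp fun _ e => e.symm⟩

theorem range_cjh (g : G) (φ : SL(2, K) →* G) : (cjh g φ).range = cj(g, φ.range) :=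
  MonoidHom.range_comp _ _

variable [Fintype K] [Finite G]

namespace JS

variable (h : JS φ w)
include h

theorem two : (2 : K) ≠ 0 := Inv.two_ne_zero_of_odd h.odd
theorem w_inv : w⁻¹ = w := inv_eq_of_mul_eq_one_right h.ww
theorem cjh_w : cjh w (cjh w φ) = φ := by rw [cjh_cjh, h.ww, cjh_one]
theorem neg' : cjh w φ (-1) = φ (-1) := by rw [cjh_apply, cj_eq h.wz]
theorem zz : φ (-1) * φ (-1) = 1 := by rw [← map_mul]; simp
theorem z1 : φ (-1) ≠ 1 := fun e => h.two (by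
  have := congrFun (congrFun (congrArg Subtype.val (h.inj (e.trans (map_one φ).symm))) 0) 0
  simp at this
  linear_combination -this)
theorem inj' : Function.Injective (cjh w φ) := cjh_inj h.inj w
theorem ce (B : SL(2, K)) : Ce φ (cjh w φ B) := fun A => (h.comm A B).symm
theorem ce' (A : SL(2, K)) : Ce (cjh w φ) (φ A) := h.comm A

theorem not_nr : ¬ Nr φ w := fun e => by
  obtain ⟨A, hA⟩ := e.ex (RootSub.xx 1)
  rcases h.inter A _ hA.symm with rfl | rfl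
  · have := h.inj' (hA.trans ((map_one φ).trans (map_one _).symm))
    simpa using congrFun (congrFun (congrArg Subtype.val this) 0) 1
  · have := h.inj' (hA.trans h.neg'.symm)
    simpa using congrFun (congrFun (congrArg Subtype.val this) 0) 1

theorem nr' (hc : Nr φ c) : Nr (cjh w φ) c := by
  have cz : Commute (w * c * w⁻¹) (φ (-1)) := (h.wz.mul_left hc.cz).mul_left h.wz.inv_left
  rcases h.act _ cz with e | e
  · have := e.cjh w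
    rwa [← conj_mul, ← conj_mul, show w * w * w⁻¹ * (w * c * w⁻¹) * (w * w⁻¹ * w⁻¹) =
      w * w * c * (w * w)⁻¹ by group, h.ww, one_mul, inv_one, mul_one] at this
  · rw [← mul_assoc, ← mul_assoc, h.ww, one_mul, h.w_inv] at e
    exact absurd (by simpa using hc.inv.mul e) h.not_nr

theorem symm : JS (cjh w φ) w where
  odd := h.odd
  inj := h.inj'
  ww := h.ww
  wz := h.neg' ▸ h.wz
  comm A B := by rw [h.cjh_w]; exact (h.comm B A).symm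
  inter A B e := by
    rw [h.cjh_w] at e
    rcases h.inter B A e.symm with rfl | rfl
    exacts [Or.inl (h.inj' (e.trans ((map_one φ).trans (map_one _).symm))),
      Or.inr (h.inj' (e.trans h.neg'.symm))]
  act c hc := (h.act c (h.neg' ▸ hc)).imp h.nr' h.nr'
  lin c M σ n e a := h.lin (w * c * w⁻¹) M σ n (by rw [conj_pow, e]; simp) (h.cjh_w ▸ a.cjh w)
  ker c o a b := by rw [h.neg']; exact h.ker c o (h.cjh_w ▸ b) a
  uq c e a b := by rw [h.neg']; exact h.uq c e (h.cjh_w ▸ b) a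

theorem nr_iff' : Nr (cjh w φ) c ↔ Nr φ c := ⟨fun e => h.cjh_w ▸ h.symm.nr' e, h.nr'⟩

theorem nr_mul (a : Commute c (φ (-1))) (b : Commute c' (φ (-1))) (h1 : ¬ Nr φ c) (h2 : ¬ Nr φ c') :
    Nr φ (c * c') := by
  have e1 := (h.act _ a.inv_left).resolve_left fun e => h1 (by simpa using e.inv)
  have := e1.inv.mul ((h.act _ b).resolve_left h2)
  rwa [mul_inv_rev, inv_inv, mul_assoc, inv_mul_cancel_left] at this

theorem not_nr_mul (h1 : ¬ Nr φ c) (h2 : Nr φ c') : ¬ Nr φ (c * c') := fun e =>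
  h1 (by simpa using e.mul h2.inv)

theorem not_nr_mul' (h1 : Nr φ c) (h2 : ¬ Nr φ c') : ¬ Nr φ (c * c') := fun e =>
  h2 (by simpa using h1.inv.mul e)

theorem nr_odd (a : Commute c (φ (-1))) (o : Odd (orderOf c)) : Nr φ c := by
  by_contra e
  obtain ⟨m, hm⟩ := o
  have := h.not_nr_mul' ((h.nr_mul a a e e).pow m) e
  rw [← pow_two, ← pow_mul, ← pow_succ, ← hm, pow_orderOf_eq_one] at this
  exact this nr_one

/-- a swap maps `L₁` to `L₂` -/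
theorem swap (a : Commute s (φ (-1))) (hs : ¬ Nr φ s) (A : SL(2, K)) :
    ∃ B, s * φ A * s⁻¹ = cjh w φ B := by
  obtain ⟨B, e⟩ := ((h.act _ a).resolve_left hs).ex A
  refine ⟨B, ?_⟩
  rw [cjh_apply, ← e, h.w_inv]
  calc _ = w * w * (s * φ A * s⁻¹) * (w⁻¹ * w) := by rw [h.ww]; simp
    _ = _ := by group

theorem swap' (a : Commute s (φ (-1))) (hs : ¬ Nr φ s) (B : SL(2, K)) :
    ∃ A, s * cjh w φ B * s⁻¹ = φ A := by
  simpa only [h.cjh_w] using h.symm.swap (h.neg' ▸ a) (mt h.nr_iff'.1 hs) B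

theorem mem_JL {y : G} : y ∈ JL φ w ↔ ∃ A B, y = φ A * cjh w φ B := by
  rw [mem_sup_of_le_normalizer_right (by
    rintro _ ⟨A, rfl⟩; exact (nr_iff h.inj').1 (h.ce' A).nr)]
  exact ⟨by rintro ⟨_, ⟨A, rfl⟩, _, ⟨B, rfl⟩, rfl⟩; exact ⟨A, B, rfl⟩,
    by rintro ⟨A, B, rfl⟩; exact ⟨_, ⟨A, rfl⟩, _, ⟨B, rfl⟩, rfl⟩⟩

theorem nr_JL {y : G} (hy : y ∈ JL φ w) : Nr φ y := by
  obtain ⟨A, B, rfl⟩ := h.mem_JL.1 hy
  exact (nr_self A).mul (h.ce B).nr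

theorem norm_JL (a : Commute c (φ (-1))) : c ∈ 𝐍[JL φ w] := by
  refine mem_normalizer_of_cj_le (cj_le_iff_forall.2 fun y hy => ?_)
  obtain ⟨A, B, rfl⟩ := h.mem_JL.1 hy
  rw [← conj_mul]
  by_cases e : Nr φ c
  · obtain ⟨A', e1⟩ := e.ex A
    obtain ⟨B', e2⟩ := (h.nr' e).ex B
    exact h.mem_JL.2 ⟨A', B', by rw [e1, e2]⟩
  · obtain ⟨A', e1⟩ := h.swap a e A
    obtain ⟨B', e2⟩ := h.swap' a e B
    exact h.mem_JL.2 ⟨B', A', by rw [e1, e2, (h.comm _ _).eq]⟩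

theorem φ_neg (A : SL(2, K)) : φ (-A) = φ A * φ (-1) := by rw [← map_mul]; simp
theorem ψ_neg (A : SL(2, K)) : cjh w φ (-A) = cjh w φ A * φ (-1) := by
  rw [← h.neg', ← map_mul]; simp

theorem mul_eq {A A' B B' : SL(2, K)} (e : φ A * cjh w φ B = φ A' * cjh w φ B') :
    (A = A' ∧ B = B') ∨ (A = -A' ∧ B = -B') := by
  have e1 : φ (A'⁻¹ * A) = cjh w φ (B' * B⁻¹) := by
    rw [map_mul, map_mul, map_inv, map_inv, inv_mul_eq_iff_eq_mul, ← mul_assoc, ← e,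
      mul_inv_cancel_right]
  rcases h.inter _ _ e1 with r | r <;> rw [r] at e1
  · rw [map_one, eq_comm, ← map_one (cjh w φ)] at e1
    exact Or.inl ⟨(inv_mul_eq_one.1 r).symm, (mul_inv_eq_one.1 (h.inj' e1)).symm⟩
  · rw [← h.neg'] at e1
    have := h.inj' e1
    refine Or.inr ⟨by simpa using inv_mul_eq_iff_eq_mul.1 r, ?_⟩
    rw [eq_mul_inv_iff_mul_eq] at this
    rw [← this]; simp

/-- 2-elements normalizing `L₁` act as matrices -/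
theorem actG {n : ℕ} (e : c ^ 2 ^ n = 1) (hc : Nr φ c) : ∃ M, ActG φ c M := by
  obtain ⟨M, σ, a⟩ := hc
  obtain rfl := h.lin c M σ n e a
  exact ⟨M, actS_one.1 a⟩

/-- a central element of `L₁ L₂` -/
theorem cen_JL {y : G} (hy : y ∈ JL φ w) (a : Ce φ y) (b : Ce (cjh w φ) y) : y = 1 ∨ y = φ (-1) := by
  obtain ⟨A, B, rfl⟩ := h.mem_JL.1 hy
  have k : ∀ {χ : SL(2, K) →* G} {A}, Function.Injective χ → Ce χ (χ A) → A * A = 1 := fun i c =>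
    Inv.SL2_sq_eq_one (mem_center_iff.2 fun g => i (by rw [map_mul, map_mul, (c g).eq]))
  refine h.uq _ ?_ a b
  rw [mul_assoc, ← mul_assoc (cjh w φ B), ← (h.comm A B).eq, mul_assoc, ← map_mul, ← mul_assoc,
    ← map_mul, k h.inj fun g => by simpa using (a g).mul_left (h.ce B⁻¹ g),
    k h.inj' fun g => by simpa using (h.ce' A⁻¹ g).mul_left (b g)]
  simp

end JS

theorem XS.symm (h : XS φ w) : XS (cjh w φ) w := ⟨h.toJS.symm, fun c => h.neg' ▸ h.cen c, h.core⟩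

theorem XS.ker' (h : XS φ w) (o : Odd (orderOf c)) (a : Ce φ c) (b : Ce (cjh w φ) c) : c = 1 := by
  have := h.ker c o a b
  rwa [show 𝐳[φ (-1)] = ⊤ from eq_top_iff.2 fun c _ => mem_cent.2 (h.cen c).symm, oc_top, h.core,
    mem_bot] at this

end abstr

section bar

variable [Finite G] {z g g' a b y γ : G}

theorem br_eq (hg : g ∈ 𝐳[z]) : br z g = QuotientGroup.mk ⟨g, hg⟩ := dif_pos hg

theorem br_mul (hg : Commute g z) (hg' : Commute g' z) : br z (g * g') = br z g * br z g' := by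
  rw [br_eq (mem_cent.2 hg.symm), br_eq (mem_cent.2 hg'.symm), br_eq (mem_cent.2 (hg.mul_left hg').symm)]
  rfl

theorem br_one : br z 1 = 1 := br_eq (one_mem _)

theorem br_inv (hg : Commute g z) : br z g⁻¹ = (br z g)⁻¹ :=
  eq_inv_of_mul_eq_one_left (by rw [← br_mul hg.inv_left hg, inv_mul_cancel, br_one])

theorem br_conj (hg : Commute g z) (hg' : Commute g' z) :
    br z (g * g' * g⁻¹) = br z g * br z g' * (br z g)⁻¹ := by
  rw [br_mul (hg.mul_left hg') hg.inv_left, br_mul hg hg', br_inv hg]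

theorem br_eq_one (hg : Commute g z) : br z g = 1 ↔ g ∈ oc 𝐳[z] := by
  rw [br_eq (mem_cent.2 hg.symm), QuotientGroup.eq_one_iff]
  exact ⟨fun h => ⟨_, h, rfl⟩, fun ⟨x, h, e⟩ => by cases e; exact h⟩

theorem br_surj (x : 𝐳[z] ⧸ oddCore 𝐳[z]) : ∃ g, Commute g z ∧ br z g = x := by
  obtain ⟨⟨g, hg⟩, rfl⟩ := QuotientGroup.mk_surjective x
  exact ⟨g, (mem_cent.1 hg).symm, br_eq hg⟩

theorem oc_z_cj (g a : G) : oc 𝐳[g * a * g⁻¹] = cj(g, oc 𝐳[a]) := by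
  rw [centralizer_singleton_conj, oc_cj]

theorem cj_zp (g a : G) : cj(g, zpowers a) = zpowers (g * a * g⁻¹) := MonoidHom.map_zpowers _ _

theorem Bl.cj (h : Bl a b) (g : G) : Bl (g * a * g⁻¹) (g * b * g⁻¹) := by
  unfold Bl
  rw [oc_z_cj, oc_z_cj, centralizer_singleton_conj, ← cj_inf]
  exact cj_mono g h

theorem KL.cj (h : KL a γ y) (g : G) : KL (g * a * g⁻¹) (g * γ * g⁻¹) (g * y * g⁻¹) := by
  unfold KL
  rw [oc_z_cj, oc_z_cj, centralizer_singleton_conj, ← cj_inf, ← cj_zp, ← map_commutator]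
  exact cj_mono g h

theorem th_cj (g a b : G) : th (g * a * g⁻¹) (g * b * g⁻¹) = cj(g, th a b) := by
  unfold th
  rw [oc_z_cj, oc_z_cj, ← cj_inf, ← cj_zp, ← map_commutator, cj_sup]

theorem Bl.of_cj {a' b' : G} (h : Bl a b) (h1 : g * a * g⁻¹ = a') (h2 : g * b * g⁻¹ = b') : Bl a' b' :=
  h1 ▸ h2 ▸ h.cj g

theorem KL.of_cj {a' γ' y' : G} (h : KL a γ y) (h1 : g * a * g⁻¹ = a') (h2 : g * γ * g⁻¹ = γ')
    (h3 : g * y * g⁻¹ = y') : KL a' γ' y' := h1 ▸ h2 ▸ h3 ▸ h.cj g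

end bar

end Cfsg.Agent.L4P
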