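import Mathlib
import Cfsg.Agent.L4P.Api
import Cfsg.Agent.ABG.HdGr
import Cfsg.Agent.P4T.Sig
import Cfsg.Agent.S0217

/-! The signalizer functor. -/

set_option autoImplicit false
set_option linter.unusedSectionVars false

namespace Cfsg.Agent.L4P

open Subgroup Cfsg Cfsg.Agent.PLocal.Amb Cfsg.Agent.Lyons Cfsg.Agent.FW Cfsg.Agent.L4Q
open scoped MatrixGroups commutatorElement

variable {G : Type*} [Group G] [Finite G] {c a b t z y₁ y₂ : G}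

namespace SigL

open P4T (z_mul z_left z_right z_norm)

variable {F : Set G} {Y : Subgroup G} {x y y' : G}

theorem th_of (ia : P4T.SigA.In F a) (hY : Y ≤ oc 𝐳[c]) (hn : centralizer F ≤ 𝐍[Y])
    (h : Y ⊓ 𝐳[a] ≤ oc 𝐳[a]) : Y ≤ th c a :=
  ia.dec (odd_of_le hY (odd_oc _)) hn ((commutator_mono hY le_rfl).trans le_sup_left)
    ((le_inf (inf_le_left.trans hY) h).trans le_sup_right)

theorem com_le (h : Commute c a) : ⁅oc 𝐳[c], zpowers a⁆ ≤ oc 𝐳[c] :=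
  Solv.commutator_le_of_le_normalizer (zpowers_le.2 (le_norm_oc _ (mem_cent.2 h)))

theorem th_le (h : Commute c a) : th c a ≤ oc 𝐳[c] := sup_le (com_le h) inf_le_left

theorem th_inf (hc : Commute c a) (h : ⁅oc 𝐳[c], zpowers a⁆ ⊓ 𝐳[a] ≤ oc 𝐳[a]) :
    th c a ⊓ 𝐳[a] ≤ oc 𝐳[c] ⊓ oc 𝐳[a] := by
  unfold th
  rw [sup_comm, sup_inf_of_le_normalizer (inf_le_right.trans (oc_le _))
    (inf_le_left.trans (Solv.le_normalizer_commutator_left _ _))]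
  exact sup_le le_rfl (le_inf (inf_le_left.trans (com_le hc)) h)

theorem th_norm : 𝐳[c] ⊓ 𝐳[a] ≤ 𝐍[th c a] :=
  le_normalizer_sup (le_normalizer_commutator (inf_le_left.trans (le_norm_oc _))
    (inf_le_right.trans (z_norm a)))
    (le_normalizer_inf (inf_le_left.trans (le_norm_oc _)) (inf_le_right.trans (le_norm_oc _)))

theorem WW_norm : 𝐳[z] ⊓ 𝐳[y] ≤ 𝐍[WW z y] :=
  le_normalizer_sup (le_normalizer_sup th_norm ((inf_comm _ _).le.trans th_norm))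
    fun _ r => th_norm ⟨z_mul r.2 r.1, r.1⟩

theorem in_of (hx : x ∈ F) (xx : x * x = 1) (h : ∀ f ∈ F, Commute f x) : P4T.SigA.In F x :=
  ⟨h, fun _ r => mem_cent.2 (r x hx), xx⟩

end SigL

open SigL P4T

/-- `P = O(C(c))`, `P ⊓ C(t) = P ⊓ C(a b)`. `ABG.Hd.graded` with `B = P ⊓ O(C(a)) ⊓ O(C(b))` gives `⁅P, ⟨a, b⟩⁆ ⊓ C(a) ⊓ C(b) ≤ B`
(`h3`: `k3`, `b3`, then `b1`). For an odd order `Y` normalized by an involution `x`, `Y = ⁅Y, x⁆ C_Y(x)` (`P4T.In.dec` and its source). With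
`Y = ⁅P, a⁆ ⊓ C(a)`, `x = b` and `k1` this gives the first claim, and the same with `a`, `b` exchanged. `th c a ≤ th c b`: `P ⊓ O(C(a))` by
`b2`; `⁅P, a⁆` by `ABG.Hd.Gr.gen_four`: its fixed points under `a` by the first claim, under `b` by `k2` (decompose under `a`), under `a b` decompose
under `b`. The other inclusion is symmetric (`b1`, `k1`). -/
theorem Tri.main (h : Tri c a b t) : ⁅oc 𝐳[c], zpowers a⁆ ⊓ 𝐳[a] ≤ oc 𝐳[a] ∧ th c a = th c b := by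
  have ia : SigA.In {c, a, b} a := in_of (by simp) h.aa (by
    rintro _ (rfl | rfl | rfl)
    exacts [h.ca, Commute.refl _, h.ab.symm])
  have ib : SigA.In {c, a, b} b := in_of (by simp) h.bb (by
    rintro _ (rfl | rfl | rfl)
    exacts [h.cb, h.ab, Commute.refl _])
  have hP : centralizer {c, a, b} ≤ 𝐍[oc 𝐳[c]] := fun _ r => le_norm_oc _ (mem_cent.2 (r c (by simp)))
  have ht : oc 𝐳[c] ⊓ 𝐳[a * b] ≤ oc 𝐳[c] ⊓ 𝐳[t] := fun _ r => ⟨r.1, by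
    rcases h.ht with rfl | rfl
    exacts [r.2, z_mul r.2 (oc_le _ r.1)]⟩
  have h0 : ⁅oc 𝐳[c], zpowers a ⊔ zpowers b⁆ ⊓ 𝐳[a] ⊓ 𝐳[b] ≤ oc 𝐳[c] ⊓ oc 𝐳[a] ⊓ oc 𝐳[b] := by
    refine ABG.Hd.graded h.aa h.bb h.ab (odd_oc _) (hP ia.mem) (hP ib.mem)
      (inf_le_inf (inf_le_inf_left _ (oc_le _)) (oc_le _))
      (le_normalizer_inf (le_normalizer_inf (fun _ r => le_normalizer r.1.1)
        fun _ r => le_norm_oc _ r.1.2) fun _ r => le_norm_oc _ r.2)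
      (fun x r => ?_) (fun x r => ?_) fun x r => ?_
    · exact ⟨⟨(ib.cl (le_normalizer_inf hP ia.nz) r.1).1, h.k1 r.1⟩, h.b2 ⟨h.k1 r.1, r.2⟩⟩
    · exact ⟨⟨(ia.cl (le_normalizer_inf hP ib.nz) r.1).1, h.b1 ⟨h.k2 r.1, r.2⟩⟩, h.k2 r.1⟩
    · have h1 := ib.cl (le_normalizer_inf hP (ia.mul ib).nz) r.1
      have h2 := h.b3 ⟨h.k3 (commutator_mono ht le_rfl r.1), r.2⟩
      exact ⟨⟨h1.1, h.b1 ⟨h2, z_left h1.2 r.2⟩⟩, h2⟩
  have hQ : ⁅oc 𝐳[c], zpowers a ⊔ zpowers b⁆ ≤ oc 𝐳[c] := Solv.commutator_le_of_le_normalizer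
    (sup_le (zpowers_le.2 (hP ia.mem)) (zpowers_le.2 (hP ib.mem)))
  have hn := le_normalizer_commutator hP (le_normalizer_sup ia.nw ib.nw)
  have ha : ⁅oc 𝐳[c], zpowers a ⊔ zpowers b⁆ ⊓ 𝐳[a] ≤ oc 𝐳[a] :=
    ib.dec (odd_of_le (inf_le_left.trans hQ) (odd_oc _)) (le_normalizer_inf hn ia.nz)
      ((commutator_mono (inf_le_inf_right _ hQ) le_rfl).trans h.k1) fun _ r => (h0 r).1.2
  have hb : ⁅oc 𝐳[c], zpowers a ⊔ zpowers b⁆ ⊓ 𝐳[b] ≤ oc 𝐳[b] :=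
    ia.dec (odd_of_le (inf_le_left.trans hQ) (odd_oc _)) (le_normalizer_inf hn ib.nz)
      ((commutator_mono (inf_le_inf_right _ hQ) le_rfl).trans h.k2)
      fun _ r => (h0 ⟨⟨r.1.1, r.2⟩, r.1.2⟩).2
  refine ⟨(inf_le_inf_right _ (commutator_mono le_rfl le_sup_left)).trans ha, le_antisymm
    (sup_le ((commutator_mono le_rfl le_sup_left).trans (th_of ib hQ hn hb)) ?_)
    (sup_le ((commutator_mono le_rfl le_sup_right).trans (th_of ia hQ hn ha)) ?_)⟩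
  · exact th_of ib inf_le_left (le_normalizer_inf hP ia.no) fun _ r => h.b2 ⟨r.1.2, r.2⟩
  · exact th_of ia inf_le_left (le_normalizer_inf hP ib.no) fun _ r => h.b1 ⟨r.1.2, r.2⟩

namespace SigL

/-- the group `⟨y₁, y₂, z⟩` -/
abbrev UU (z y₁ y₂ : G) : Subgroup G := zpowers y₁ ⊔ zpowers y₂ ⊔ zpowers z

variable {x y y' : G} (h : Sg z y₁ y₂)
include h

theorem iz : SigA.In {z, y₁, y₂} z := in_of (by simp) h.zz (by
  rintro _ (rfl | rfl | rfl)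
  exacts [Commute.refl _, h.c1.symm, h.c2.symm])

theorem i1 : SigA.In {z, y₁, y₂} y₁ := in_of (by simp) h.y1 (by
  rintro _ (rfl | rfl | rfl)
  exacts [h.c1, Commute.refl _, h.c3.symm])

theorem i2 : SigA.In {z, y₁, y₂} y₂ := in_of (by simp) h.y2 (by
  rintro _ (rfl | rfl | rfl)
  exacts [h.c2, h.c3, Commute.refl _])

theorem mem_U (hx : x ∈ UU z y₁ y₂) : x = 1 ∨ x = z ∨ x ∈ YY z y₁ y₂ := by
  obtain ⟨u, hu, v, hv, rfl⟩ := (mem_sup_of_le_normalizer_right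
    (sup_le (zpowers_le.2 ((iz h).nw (i1 h).mem)) (zpowers_le.2 ((iz h).nw (i2 h).mem)))).1 hx
  have h1 : v = 1 ∨ v = z := by
    have := ABG.Hd.Gr.mem_four h.zz h.zz (Commute.refl z) (mem_sup_left hv)
    rw [h.zz] at this
    tauto
  rcases ABG.Hd.Gr.mem_four h.y1 h.y2 h.c3 hu with r | r | r | r <;> rcases h1 with r' | r' <;>
    simp [r, r', YY]

omit h in
theorem mz : z ∈ UU z y₁ y₂ := mem_sup_right (mem_zpowers z)
omit h in
theorem m1 : y₁ ∈ UU z y₁ y₂ := mem_sup_left (mem_sup_left (mem_zpowers y₁))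
omit h in
theorem m2 : y₂ ∈ UU z y₁ y₂ := mem_sup_left (mem_sup_right (mem_zpowers y₂))

omit h in
theorem Y_U (hy : y ∈ YY z y₁ y₂) : y ∈ UU z y₁ y₂ := by
  rcases hy with rfl | rfl | rfl | rfl | rfl | rfl
  exacts [m1, mul_mem m1 mz, m2, mul_mem m2 mz, mul_mem m1 m2, mul_mem (mul_mem m1 m2) mz]

theorem iY (hy : y ∈ YY z y₁ y₂) : SigA.In {z, y₁, y₂} y := by
  rcases hy with rfl | rfl | rfl | rfl | rfl | rfl
  exacts [i1 h, (i1 h).mul (iz h), i2 h, (i2 h).mul (iz h), (i1 h).mul (i2 h),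
    ((i1 h).mul (i2 h)).mul (iz h)]

theorem iU (hx : x ∈ UU z y₁ y₂) : SigA.In {z, y₁, y₂} x := by
  rcases mem_U h hx with rfl | rfl | r
  exacts [⟨one_mem _, fun y _ => mem_cent.2 (Commute.one_left y), one_mul 1⟩, iz h, iY h r]

theorem Yz (hy : y ∈ YY z y₁ y₂) : y * z ∈ YY z y₁ y₂ := by
  rcases hy with e | e | e | e | e | e <;> rw [e] <;> simp [YY, mul_assoc, h.zz]

theorem nz (hy : y ∈ YY z y₁ y₂) : y ≠ z := fun e => h.ne _ (Yz h hy) (by rw [e, h.zz])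

theorem Ymul (hy : y ∈ YY z y₁ y₂) (hy' : y' ∈ YY z y₁ y₂) (h1 : y' ≠ y) (h2 : y' ≠ y * z) :
    y * y' ∈ YY z y₁ y₂ := by
  refine ((mem_U h (mul_mem (Y_U hy) (Y_U hy'))).resolve_left fun e => h1 ?_).resolve_left
    fun e => h2 ?_
  · rw [← one_mul y', ← (iY h hy).sq, mul_assoc, e, mul_one]
  · rw [← e, ← mul_assoc, (iY h hy).sq, one_mul]

theorem ne' (h2 : y' ≠ y * z) : y ≠ y' * z := fun e => h2 (by rw [e, mul_assoc, h.zz, mul_one])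

theorem tri (hy : y ∈ YY z y₁ y₂) (hy' : y' ∈ YY z y₁ y₂) (h1 : y' ≠ y) (h2 : y' ≠ y * z) :
    Tri z y y' (y * y') := by
  have hm := Ymul h hy hy' h1 h2
  have n1 : y * y' ≠ y' := fun e => h.ne y hy (by simpa using e)
  have n2 : y * y' ≠ y' * z := fun e => nz h hy (by
    rw [← ((iz h).comm (iY h hy')).eq] at e; simpa using e)
  exact ⟨(iY h hy).sq, (iY h hy').sq, (iY h hy).comm (iY h hy'), (iz h).comm (iY h hy),
    (iz h).comm (iY h hy'), .inl rfl, (h.hd y hy y' hy' h1 h2).1,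
    (h.hd y' hy' y hy h1.symm (ne' h h2)).1, (h.hd y' hy' _ hm n1 n2).1, (h.hd y hy y' hy' h1 h2).2,
    (h.hd y' hy' y hy h1.symm (ne' h h2)).2, (h.hd _ hm y' hy' n1.symm (ne' h n2)).2⟩

theorem third (hy : y ∈ YY z y₁ y₂) : ∃ y' ∈ YY z y₁ y₂, y' ≠ y ∧ y' ≠ y * z := by
  have k1 : y₁ ∈ YY z y₁ y₂ := by simp [YY]
  have k2 : y₂ ∈ YY z y₁ y₂ := by simp [YY]
  have k3 : y₁ * y₂ ∈ YY z y₁ y₂ := by simp [YY]
  by_contra hc
  push Not at hc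
  have e1 := or_iff_not_imp_left.2 (hc y₁ k1)
  have e2 := or_iff_not_imp_left.2 (hc y₂ k2)
  have q := (iY h hy).sq
  have q1 : y * (y * z) = z := by rw [← mul_assoc, q, one_mul]
  have q2 : y * z * y = z := by rw [mul_assoc, ((iz h).comm (iY h hy)).eq, q1]
  rcases e1 with e1 | e1 <;> rcases e2 with e2 | e2
  exacts [h.ne _ k3 (by rw [e1, e2, q]), nz h k3 (by rw [e1, e2, q1]), nz h k3 (by rw [e1, e2, q2]),
    h.ne _ k3 (by rw [e1, e2, (iY h (Yz h hy)).sq])]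

theorem th_eq (hy : y ∈ YY z y₁ y₂) (hy' : y' ∈ YY z y₁ y₂) : th z y = th z y' := by
  by_cases h1 : y' = y
  · rw [h1]
  by_cases h2 : y' = y * z
  · obtain ⟨u, hu, u1, u2⟩ := third h hy
    rw [(tri h hy hu u1 u2).main.2, (tri h hy' hu (h2 ▸ u2) (by
      rw [h2, mul_assoc, h.zz, mul_one]; exact u1)).main.2]
  exact (tri h hy hy' h1 h2).main.2

theorem zy (hy : y ∈ YY z y₁ y₂) : th z y₁ ⊓ 𝐳[y] ≤ oc 𝐳[z] ⊓ oc 𝐳[y] := by
  obtain ⟨u, hu, u1, u2⟩ := third h hy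
  rw [th_eq h (by simp [YY]) hy]
  exact th_inf ((iz h).comm (iY h hy)) (tri h hy hu u1 u2).main.1

theorem yz (hy : y ∈ YY z y₁ y₂) : th y z ⊓ 𝐳[z] ≤ oc 𝐳[y] ⊓ oc 𝐳[z] :=
  th_inf ((iY h hy).comm (iz h)) (h.hb y hy)

theorem le_z (hy : y ∈ YY z y₁ y₂) : oc 𝐳[y] ⊓ oc 𝐳[z] ≤ th z y₁ := by
  rw [th_eq h (by simp [YY]) hy, inf_comm]
  exact le_sup_right

theorem yy (hy : y ∈ YY z y₁ y₂) (hy' : y' ∈ YY z y₁ y₂) : th y z ⊓ 𝐳[y'] ≤ th y' z := by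
  have hl := th_le ((iY h hy).comm (iz h))
  by_cases h1 : y' = y
  · rw [h1]; exact inf_le_left
  by_cases h2 : y' = y * z
  · refine le_trans (fun x r => ?_) le_sup_right
    have := yz h hy ⟨r.1, z_right (h2 ▸ r.2) (oc_le _ (hl r.1))⟩
    exact ⟨(zy h hy' ⟨le_z h hy this, r.2⟩).2, this.2⟩
  exact th_of (iz h) ((inf_le_inf_right _ hl).trans (h.hd y' hy' y hy (Ne.symm h1) (ne' h h2)).1)
    (le_normalizer_inf ((le_inf (iY h hy).le (iz h).le).trans th_norm) (iY h hy').nz)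
    fun _ r => (yz h hy ⟨r.1.1, r.2⟩).2

theorem card_U : 2 ^ 3 ≤ Nat.card ↥(UU z y₁ y₂) := by
  have h0 : IsPGroup 2 ↥(UU z y₁ y₂) :=
    isPGroup_iff.2 fun x hx => ⟨1, by rw [pow_one, pow_two, (iU h hx).sq]⟩
  obtain ⟨n, hn⟩ := IsPGroup.iff_card.1 h0
  have k1 : y₁ ∈ YY z y₁ y₂ := by simp [YY]
  have k2 : y₂ ∈ YY z y₁ y₂ := by simp [YY]
  have k3 : y₁ * y₂ ∈ YY z y₁ y₂ := by simp [YY]
  have h1 := h.ne _ k1
  have h2 := h.ne _ k2
  have h3 := h.z1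
  have h4 : y₁ ≠ y₂ := fun e => h.ne _ k3 (by rw [e, h.y2])
  have h5 := nz h k1
  have h6 := nz h k2
  have h7 := h.ne _ k3
  have h8 := nz h k3
  have := Nat.card_le_card_of_injective (![⟨1, one_mem _⟩, ⟨y₁, m1⟩, ⟨y₂, m2⟩,
    ⟨z, mz⟩, ⟨y₁ * y₂, mul_mem m1 m2⟩] : Fin 5 → ↥(UU z y₁ y₂))
    fun i j => by
      fin_cases i <;> fin_cases j <;>
        simp [h1, h2, h3, h4, h5, h6, h7, h8, h1.symm, h2.symm, h3.symm, h4.symm, h5.symm, h6.symm, h7.symm,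
          h8.symm]
  rw [hn, Nat.card_fin] at this
  rw [hn]
  refine Nat.pow_le_pow_right (by norm_num) (not_lt.1 fun r => ?_)
  interval_cases n <;> omega

theorem ex_W : ∃ W : Subgroup G, Odd (Nat.card W) ∧ centralizer {z, y₁, y₂} ≤ 𝐍[W] ∧
    W ⊓ 𝐳[z] = th z y₁ ∧ ∀ y ∈ YY z y₁ y₂, W ⊓ 𝐳[y] = th y z := by
  classical
  let θ : G → Subgroup G := fun x => if x = z then th z y₁ else th x z
  have e1 : θ z = th z y₁ := if_pos rfl
  have e2 : ∀ y ∈ YY z y₁ y₂, θ y = th y z := fun y hy => if_neg (nz h hy)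
  have hc : ∀ x ∈ UU z y₁ y₂, x ≠ 1 → x = z ∨ x ∈ YY z y₁ y₂ := fun x hx => (mem_U h hx).resolve_left
  have hl : ∀ x ∈ UU z y₁ y₂, x ≠ 1 → θ x ≤ oc 𝐳[x] := fun x hx x1 => by
    rcases hc x hx x1 with rfl | r
    exacts [e1 ▸ th_le h.c1, e2 x r ▸ th_le ((iY h r).comm (iz h))]
  have hn : ∀ x ∈ UU z y₁ y₂, centralizer {z, y₁, y₂} ≤ 𝐍[θ x] := fun x hx => by
    by_cases e : x = z
    · rw [e, e1]; exact (le_inf (iz h).le (i1 h).le).trans th_norm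
    · rw [show θ x = th x z from if_neg e]; exact (le_inf (iU h hx).le (iz h).le).trans th_norm
  have ho := fun x hx x1 => odd_of_le (hl x hx x1) (odd_oc _)
  obtain ⟨h1, h2⟩ := S0217.result (p := 2) _ (fun x hx y hy => (iU h hx).comm (iU h hy))
    (fun x hx => by rw [pow_two, (iU h hx).sq]) (card_U h) θ
    (fun x hx x1 => (hl x hx x1).trans (oc_le _)) (fun x hx x1 => (ho x hx x1).not_two_dvd_nat)
    (fun x hx _ y hy _ r => conj_mem_of_mem_normalizer (hn x hx (iU h hy).mem) r)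
    (fun x hx x1 => S0205.result (ho x hx x1)) fun x hx x1 y hy y1 => by
      rcases hc x hx x1 with rfl | r <;> rcases hc y hy y1 with rfl | r'
      · exact inf_le_left
      · rw [e1, e2 y r']; exact (zy h r').trans ((inf_comm _ _).le.trans le_sup_right)
      · rw [e1, e2 x r]; exact (yz h r).trans (le_z h r)
      · rw [e2 x r, e2 y r']; exact yy h r r'
  refine ⟨_, Nat.not_even_iff_odd.1 fun r => h1 r.two_dvd, le_normalizer_iff_cj.2 fun g hg => ?_,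
    e1 ▸ h2 z mz h.z1, fun y hy => e2 y hy ▸ h2 y (Y_U hy) (h.ne y hy)⟩
  rw [cj_iSup]
  exact iSup_mono fun x => (cj_of_mem_normalizer (hn x x.2.1 hg)).le

end SigL

/-- `A = ⟨z, y₁, y₂⟩` has order 8 (`z1`, `ne`; `YY` is `A ∖ ⟨z⟩`). By `Tri.main` for `Tri z y y' (y y')`, `th z y` is the same for all `y ∈ YY` (pass through a third
element for `y`, `y z`), and `th z y ⊓ C(y) ≤ O(C(z)) ⊓ O(C(y))` (Dedekind; `⁅O(C(z)), y⁆` is normal in `O(C(z))`). Hence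
`O(C(z)) ⊓ O(C(y)) ≤ O(C(y z))`. `θ z = th z y₁`, `θ y = th y z`. Balance: `θ y ⊓ C(z) ≤ O(C(y)) ⊓ O(C(z))` by `hb`; for `y' ∉ {y, y z}`,
`Y = θ y ⊓ C(y') ≤ O(C(y'))` by `hd`, `Y = ⁅Y, z⁆ C_Y(z)`. `S0217` (solvable by the odd order theorem, see `P4T.FS.main`) gives `W` of odd order with
`W ⊓ C(a) = θ a`; `gen_four` for the four-groups `⟨z, y₁⟩`, `⟨z, y₂⟩`, `⟨y₁, y₂⟩`. Last claim: `O(C(z)) = ⁅O(C(z)), y₁⁆ C(y₁)`, and
elements commuting with `z, y₁` normalize `WW z y₁` (`th_cj`). -/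
theorem Sg.main (h : Sg z y₁ y₂) : Odd (Nat.card (WW z y₁)) ∧ WW z y₂ = WW z y₁ ∧
    WW z (y₁ * z) = WW z y₁ ∧ th y₁ z ⊔ th y₂ z ⊔ th (y₁ * y₂) z = WW z y₁ ∧ oc 𝐳[z] ≤ 𝐍[WW z y₁] := by
  obtain ⟨W, ho, hn, hz, hy⟩ := ex_W h
  have k1 : y₁ ∈ YY z y₁ y₂ := by simp [YY]
  have k2 : y₂ ∈ YY z y₁ y₂ := by simp [YY]
  have k3 : y₁ * y₂ ∈ YY z y₁ y₂ := by simp [YY]
  have hl : ∀ y ∈ YY z y₁ y₂, th y z ≤ W := fun y r => (hy y r).ge.trans inf_le_left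
  have e : ∀ y ∈ YY z y₁ y₂, WW z y = W := fun y r => le_antisymm
    (sup_le (sup_le (th_eq h k1 r ▸ hz.ge.trans inf_le_left) (hl y r)) (hl _ (Yz h r)))
    ((iY h r).g4 (iz h) ho hn ((hy y r).le.trans (le_sup_of_le_left le_sup_right))
      (hz.le.trans ((th_eq h k1 r).le.trans (le_sup_of_le_left le_sup_left)))
      ((hy _ (Yz h r)).le.trans le_sup_right))
  refine ⟨e _ k1 ▸ ho, by rw [e _ k1, e _ k2], by rw [e _ k1, e _ (Yz h k1)], ?_, ?_⟩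
  · rw [e _ k1]
    exact le_antisymm (sup_le (sup_le (hl _ k1) (hl _ k2)) (hl _ k3))
      ((i1 h).g4 (i2 h) ho hn ((hy _ k1).le.trans (le_sup_of_le_left le_sup_left))
        ((hy _ k2).le.trans (le_sup_of_le_left le_sup_right)) ((hy _ k3).le.trans le_sup_right))
  · exact (i1 h).dec (odd_oc _) (iz h).no
      ((le_sup_of_le_left (le_sup_of_le_left le_sup_left)).trans le_normalizer)
      ((inf_le_inf_right _ (oc_le _)).trans WW_norm)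

end Cfsg.Agent.L4P
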