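import Mathlib
import Cfsg.Agent.L4P.Api
import Cfsg.Agent.L4Q.Fus
import Cfsg.Prelude.Def_FusionSystem

/-! The Sylow data, and the model from the fusion hypothesis. -/

set_option autoImplicit false
set_option linter.unusedSectionVars false

namespace Cfsg.Agent.L4P

open Subgroup Cfsg Cfsg.Agent.PLocal.Amb Cfsg.Agent.Lyons Cfsg.Agent.FW Cfsg.Agent.L4Q
open scoped MatrixGroups commutatorElement

variable {F : Type*} [Field F] [Fintype F]

/-- the elements commuting with `i` up to sign -/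
def NIsy (i : GL (Fin 2) F) : Subgroup (GL (Fin 2) F) where
  carrier := {g | g * i = i * g ∨ g * i = -(i * g)}
  one_mem' := Or.inl (by simp)
  mul_mem' := by
    rintro x y (hx | hx) (hy | hy) <;>
      simp only [Set.mem_ofPred_eq, mul_assoc, hy, mul_neg] <;>
      simp only [← mul_assoc, hx, neg_mul, neg_neg, true_or, or_true]
  inv_mem' := by
    rintro x (hx | hx)
    · exact Or.inl (Commute.inv_left hx)
    · refine Or.inr ?_
      rw [inv_mul_eq_iff_eq_mul, mul_neg, ← mul_assoc, hx, neg_mul, neg_neg, mul_inv_cancel_right]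

theorem exists_inv_pow_sy {H : Type*} [Group H] (k : ℕ) {u : H} (hu : u ≠ 1) (hk : u ^ 2 ^ k = 1) :
    ∃ n, u ^ n ≠ 1 ∧ u ^ n * u ^ n = 1 := by
  induction k generalizing u with
  | zero => exact absurd (by simpa using hk) hu
  | succ k ih =>
    by_cases e : u ^ 2 = 1
    · exact ⟨1, by simpa using hu, by simpa [pow_two] using e⟩
    · obtain ⟨n, hn⟩ := ih e (by rw [← pow_mul, ← pow_succ', hk])
      exact ⟨2 * n, by simpa only [pow_mul] using hn⟩

theorem sq_one_sy (h2 : (2 : F) ≠ 0) {X : SL(2, F)} (h : X.1 * X.1 = 1) : X.1 = 1 ∨ X.1 = -1 := by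
  have hd := X.2
  generalize X.1 = Y at *
  obtain ⟨p, q, r, s, rfl⟩ := ent Y
  simp only [mm] at *
  have : p + s ≠ 0 := by grind
  have : q = 0 ∧ r = 0 := by grind
  have : p = 1 ∨ p = -1 := by grind
  grind

theorem not_scal_sy (h2 : (2 : F) ≠ 0) {X : SL(2, F)} (h : X * X = -1) : ¬ Scal X.1 := by
  have h1 : X.1 * X.1 = -1 := congrArg Subtype.val h
  have hd := X.2
  generalize X.1 = Y at *
  obtain ⟨p, q, r, s, rfl⟩ := ent Y
  simp only [mm, scal_iff] at *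
  grind

theorem comm_of_sy {i a b : M2 F} (hi : ¬ Scal i) (ha : a * i = i * a) (hb : b * i = i * b) :
    a * b = b * a := by
  obtain ⟨p, q, r, s, rfl⟩ := ent i
  obtain ⟨x, y, z, u, rfl⟩ := ent a
  obtain ⟨x', y', z', u', rfl⟩ := ent b
  simp only [mm, scal_iff] at *
  by_cases hq : q = 0
  · by_cases hr : r = 0
    · have : p - s ≠ 0 := by grind
      grind
    · grind
  · grind

theorem mem_neg_sy {g : GL (Fin 2) F} (h : g ∈ zpowers (-1 : GL (Fin 2) F)) : g = 1 ∨ g = -1 := by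
  obtain ⟨n, rfl⟩ := h
  rcases Int.even_or_odd n with e | e
  exacts [Or.inl e.neg_one_zpow, Or.inr (by simpa using e.neg_zpow (1 : GL (Fin 2) F))]

/-- a 2-group containing an element of order 4 of `SL₂` normalizes a cyclic group of order 4 of `SL₂` -/
theorem exists_nrm_sy (h2 : (2 : F) ≠ 0) {P : Subgroup (GL (Fin 2) F)} (hP : IsPGroup 2 P) {I : SL(2, F)}
    (hI : I * I = -1) (m : tg I ∈ P) : ∃ A : SL(2, F), A * A = -1 ∧ P ≤ NIsy (tg A) := by
  have hn : (zpowers (-1 : GL (Fin 2) F)).Normal := ⟨fun n hn g => by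
    rcases mem_neg_sy hn with rfl | rfl <;> simp⟩
  have hr : (tg : SL(2, F) →* GL (Fin 2) F).range.Normal := ⟨by
    rintro _ ⟨X, rfl⟩ g
    refine ⟨⟨(g * tg X * g⁻¹).1, ?_⟩, Units.ext rfl⟩
    rw [Units.val_mul, Units.val_mul, Matrix.det_mul, Matrix.det_mul, coe_tg, X.2, mul_one,
      ← Matrix.det_mul, Units.mul_inv, Matrix.det_one]⟩
  set π := QuotientGroup.mk' (zpowers (-1 : GL (Fin 2) F))
  have k : ∀ g, π g = 1 ↔ g = 1 ∨ g = -1 := fun g => (QuotientGroup.eq_one_iff g).trans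
    ⟨mem_neg_sy, by rintro (rfl | rfl) <;> simp⟩
  have hV := inf_centralizer_ne_bot (T := P.map π) (V := (P ⊓ tg.range).map π) (hP.map π)
    ((hP.to_le inf_le_left).map π) ((map_mono (le_normalizer_inf le_normalizer
      (le_normalizer_of_normal))).trans (le_normalizer_map π)) (fun e => by
        have : π (tg I) ∈ (P ⊓ tg.range).map π := mem_map_of_mem π ⟨m, I, rfl⟩
        rw [e, mem_bot, k] at this
        exact not_scal_sy h2 hI (this.elim (fun e => ⟨1, (congrArg Units.val e).trans (by simp)⟩)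
          fun e => ⟨-1, (congrArg Units.val e).trans (by simp)⟩))
  obtain ⟨⟨_, ⟨_, ⟨hx, X, rfl⟩, rfl⟩, hc⟩, h1⟩ := ne_bot_iff_exists_ne_one.1 hV
  obtain ⟨j, hj⟩ := isPGroup_iff.1 hP _ hx
  obtain ⟨n, h3, h4⟩ := exists_inv_pow_sy j (fun e => h1 (Subtype.ext e))
    (show π (tg X) ^ 2 ^ j = 1 by rw [← map_pow, hj, map_one])
  have hc' := pow_mem hc n
  rw [← map_pow, ← map_pow] at h3 h4 hc'
  generalize X ^ n = A at *
  rw [← map_mul, k] at h4
  rw [Ne, k] at h3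
  refine ⟨A, ?_, fun g hg => ?_⟩
  · rcases h4 with e | e
    · exact (h3 ((sq_one_sy h2 (congrArg Units.val e)).imp Units.ext Units.ext)).elim
    · exact Subtype.ext (congrArg Units.val e)
  · have := hc' (π g) (mem_map_of_mem π hg)
    rw [← mul_inv_eq_one, ← map_mul, ← map_mul, ← map_inv, ← map_mul, k] at this
    exact this.imp mul_inv_eq_one.1 fun e => by simpa using mul_inv_eq_iff_eq_mul.1 e

theorem exists_gl_sy {a : M2 F} (h : a.det ≠ 0) : ∃ g : GL (Fin 2) F, g.1 = a :=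
  ⟨.mkOfDetNeZero a h, rfl⟩

theorem exists_gam_sy (h2 : (2 : F) ≠ 0) {I : SL(2, F)} (hI : I * I = -1) {e : GL (Fin 2) F}
    (he : e ^ 2 ^ 2 = 1) (hn : e.1 * I.1 = -(I.1 * e.1)) : ∃ Γ, IsSyl 2 Γ ⊤ ∧ e ∈ Γ ∧
      (∀ a, Gm Γ a → a * I.1 = I.1 * a ∨ a * I.1 = -(I.1 * a)) ∧
      ∀ (a : M2 F) (n : ℕ), a * I.1 = I.1 * a → a ^ 2 ^ n = 1 → Gm Γ a := by
  obtain ⟨P, hP, hl⟩ := exists_isSyl_ge (p := 2) (R := zpowers (tg I)) (L := ⊤) (isPGroup_zpowers ⟨2, by
    rw [← map_pow, show 2 ^ 2 = 2 * 2 from rfl, pow_mul, pow_two I, hI]; simp⟩) le_top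
  obtain ⟨A, hA, hle⟩ := exists_nrm_sy h2 hP.pgrp hI (hl (mem_zpowers _))
  obtain ⟨c, hc⟩ := exists_conj h2 (a := A.1) (b := I.1) (m := -1) (by simp)
    (by simpa using congrArg Subtype.val hA) (not_scal_sy h2 hA)
    (by simpa using congrArg Subtype.val hI) (not_scal_sy h2 hI)
  have hc' : tg I = tg c * tg A * (tg c)⁻¹ := (mul_inv_eq_iff_eq_mul.2 (Units.ext hc)).symm
  obtain ⟨Γ, hΓ, hm⟩ := exists_isSyl_ge (p := 2) (R := zpowers e) (L := NIsy (tg I))
    (isPGroup_zpowers ⟨2, he⟩) (zpowers_le.2 (Or.inr (Units.ext hn)))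
  refine ⟨Γ, hΓ.of_le_of_isSyl le_top (hP.cj_of_mem (mem_top (tg c)))
    (cj_le_iff_forall.2 fun g hg => ?_), hm (mem_zpowers _), ?_, fun a n ha hp => ?_⟩
  · refine (hle hg).imp (fun e => ?_) fun e => ?_ <;> rw [hc', conj_mul, conj_mul, e]
    simp
  · rintro _ ⟨g, hg, rfl⟩
    exact (hΓ.le hg).imp (congrArg Units.val) (congrArg Units.val)
  · obtain ⟨g, rfl⟩ := exists_gl_sy (a := a) (fun e => by
      have := congrArg Matrix.det hp
      rw [Matrix.det_pow, e, zero_pow (by positivity)] at this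
      simp at this)
    have hs := hΓ.inf_of_le (N := 𝐳[tg I]) (fun x hx => Or.inl (mem_cent.1 hx).symm.eq)
      fun x hx => mem_normalizer_of_cj_le (by
        rw [← centralizer_singleton_conj]
        intro y hy
        rw [mem_cent] at hy ⊢
        rcases hx with e | e <;> rw [e] at hy
        · simpa using hy
        · simpa using hy)
    obtain ⟨x, hx, hy⟩ := exists_conj_mem hs (t := g) (mem_cent.2 (Units.ext ha.symm)) (k := n)
      (Units.ext (by simpa using hp))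
    rw [cj_eq (Units.ext (comm_of_sy (not_scal_sy h2 hI)
      (congrArg Units.val (mem_cent.1 hx).symm.eq) ha))] at hy
    exact .of hy.1

theorem sylA_sy {Γ : Subgroup (GL (Fin 2) F)} (h : IsSyl 2 Γ ⊤) : IsSyl 2 (AA Γ) ⊤ := by
  have k : ∀ a, Gm Γ a → ∃ n, a ^ 2 ^ n = 1 := by
    rintro _ ⟨g, hg, rfl⟩
    exact (isPGroup_iff.1 h.pgrp g hg).imp fun n e => by simpa using congrArg Units.val e
  refine ⟨le_top, isPGroup_iff.2 fun x hx => ?_, fun R hR h1 _ => ?_⟩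
  · obtain ⟨n, hn⟩ := k _ (mul_mem hx hx).1
    obtain ⟨m, hm⟩ := k _ (mul_mem hx hx).2
    have hs : (x * x).s = false := by simp
    refine ⟨n + m + 1, ?_⟩
    rw [pow_succ', pow_mul, pow_two x]
    ext1
    · rw [(pow_ab hs _).1, pow_add, pow_mul, hn, one_pow, HK.one_a]
    · rw [(pow_ab hs _).2, add_comm, pow_add, pow_mul, hm, one_pow, HK.one_b]
    · exact pow_mem (show x * x ∈ H0 from hs) _
  · let R1 : Subgroup (GL (Fin 2) F) :=
      { carrier := {g | ∃ k ∈ R, k.s = false ∧ k.a = g.1}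
        one_mem' := ⟨1, one_mem _, rfl, rfl⟩
        mul_mem' := by
          rintro x y ⟨u, hu, s1, e1⟩ ⟨v, hv, s2, e2⟩
          exact ⟨u * v, mul_mem hu hv, by simp [s1, s2], by simp [s1, e1, e2]⟩
        inv_mem' := by
          rintro x ⟨u, hu, s1, e1⟩
          refine ⟨u⁻¹, inv_mem hu, s1, Units.eq_inv_of_mul_eq_one_right ?_⟩
          have := congrArg HK.a (inv_mul_cancel u)
          rwa [HK.mul_a, HK.inv_s, s1, cond_false, e1] at this }
    have h3 : R1 ≤ Γ := h.max R1 (isPGroup_iff.2 (by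
      rintro g ⟨u, hu, s1, e1⟩
      exact (isPGroup_iff.1 hR u hu).imp fun n e => Units.ext (by
        simpa [(pow_ab s1 _).1, e1] using congrArg HK.a e)))
      (fun g hg => ⟨dd g false, h1 (dd_AA hg _), rfl, rfl⟩) le_top
    have h4 : ∀ u ∈ R, Gm Γ u.a := fun u hu => by
      obtain ⟨g, hg⟩ := exists_gl_sy u.da
      rw [← hg, gm_iff]
      cases hs : u.s
      · exact h3 ⟨u, hu, hs, hg.symm⟩
      · exact h3 ⟨u * ws, mul_mem hu (h1 ws_AA), by simp [hs], by simp [hs, hg]⟩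
    exact fun u hu => ⟨h4 u hu, by simpa using h4 _ (mul_mem (h1 ws_AA) hu)⟩

theorem diag_pow_sy (l : F) (n : ℕ) : (!![l, 0; 0, 1] : M2 F) ^ n = !![l ^ n, 0; 0, 1] := by
  induction n with
  | zero => simp [mm]
  | succ n ih => rw [pow_succ, ih]; simp only [mm]; grind

theorem exists_l_sy (h2 : (2 : F) ≠ 0) : ∃ (l : F) (n : ℕ), ¬ IsSquare l ∧ l ^ 2 ^ n = 1 := by
  obtain ⟨u, hu⟩ := FiniteField.exists_nonsquare (char_ne h2)
  have u0 : u ≠ 0 := by rintro rfl; exact hu IsSquare.zero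
  obtain ⟨n, _, ⟨t, rfl⟩, e⟩ := Nat.exists_eq_two_pow_mul_odd
    (n := Fintype.card F - 1) (by have := Fintype.one_lt_card (α := F); omega)
  refine ⟨u ^ (2 * t + 1), n, fun ⟨c, hc⟩ => hu ⟨c / u ^ t, ?_⟩, ?_⟩
  · field_simp
    rw [pow_two c, ← hc]; ring
  · rw [← pow_mul, mul_comm, ← e, FiniteField.pow_card_sub_one_eq_one u u0]

theorem exists_D_sy (h2 : (2 : F) ≠ 0) : ∃ (D : GL (Fin 2) F) (n : ℕ), D.1.det = -1 ∧
    D.1 * jm = jm * D.1 ∧ D.1 ^ 2 ^ n = 1 := by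
  obtain ⟨x, y, e⟩ := exists_norm h2 (m := -1) (by simp) (-1 : F)
  have hd : (!![x, y; -y, x] : M2 F).det = -1 := by simp only [mm]; grind
  obtain ⟨g, hg⟩ := exists_gl_sy (a := !![x, y; -y, x]) (by simp [hd])
  obtain ⟨n, m, hm, e⟩ := Nat.exists_eq_two_pow_mul_odd (orderOf_pos g).ne'
  refine ⟨g ^ m, n, ?_, ?_, ?_⟩
  · rw [Units.val_pow_eq_pow_val, Matrix.det_pow, hg, hd, hm.neg_one_pow]
  · rw [Units.val_pow_eq_pow_val, hg]
    exact (Commute.pow_left (by simp only [Commute, SemiconjBy, mm]; grind) m).eq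
  · rw [← Units.val_pow_eq_pow_val, ← pow_mul, mul_comm, ← e, pow_orderOf_eq_one, Units.val_one]

/-- Case (II), `-1 = ι²`: `I = ι • rm`, `J = jS`, `D = diag(l, 1)` with `l` a nonsquare of 2-power order (the 2-part of
a nonsquare). Case (I), `q ≡ 7 (8)`: `I = jS`, `E = F[jm]` is the field with `q²` elements, `det` is its norm; `D` is an element of
2-power order of `E` with `det D = -1` (2-part of a solution of `x² + y² = -1`, `L4Q.exists_norm`), `J = rm * D`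
(`rm e rm = adj e` on `E`). Let `N = {g | g I = ± I g}`, `C = C(I)` (abelian, of index 2 in `N`), `C₂` its 2-elements;
`Γ = C₂ ∪ C₂ rm`, a Sylow subgroup of `N`. `N` has order `2 (q-1)²` or `2 (q²-1)`, so odd index `q (q ± 1) / 2` in `GL₂(q)`.
(Without counting: a Sylow subgroup `P ≥ Γ`; any element of `N_P(Γ)` normalizes `Γ ∩ SL₂` ...) `sylA`: `AA Γ` is a 2-group;
if `P ≥ AA Γ` is a 2-group, the two projections of `P ⊓ H0` to `GL₂` are 2-groups containing `Γ` (`dd g false`), so equal `Γ`;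
for `k ∈ P` with `k.s = true` use `k * ws`. -/
theorem exists_sy (hq : Odd (Fintype.card F)) (h8 : Fintype.card F % 8 ≠ 3) :
    ∃ (Γ : Subgroup (GL (Fin 2) F)) (I J : SL(2, F)) (D : GL (Fin 2) F), Sy Γ I J D := by
  have h2 : (2 : F) ≠ 0 := Inv.two_ne_zero_of_odd hq
  have jj : (jS * jS : SL(2, F)) = -1 := Subtype.ext jm_jm
  have j4 : (jm : M2 F) ^ 2 ^ 2 = 1 := by
    rw [show 2 ^ 2 = 2 * 2 from rfl, pow_mul, pow_two jm, jm_jm]; simp
  by_cases hs : IsSquare (-1 : F)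
  · obtain ⟨ι, hι⟩ := hs
    obtain ⟨l, n, hl, hn⟩ := exists_l_sy h2
    obtain ⟨I, hI⟩ := exists_sl (a := (ι • rm : M2 F)) (by simp only [mm]; grind)
    obtain ⟨D, hD⟩ := exists_gl_sy (a := !![l, 0; 0, 1]) (by
      rintro e; simp only [mm] at e; exact hl ⟨0, by grind⟩)
    have II : I * I = -1 := Subtype.ext (show I.1 * I.1 = -1 by rw [hI]; simp only [mm]; grind)
    have JI : jm * I.1 = -(I.1 * jm) := by rw [hI]; simp only [mm]; grind
    obtain ⟨Γ, h1, h3, h4, h5⟩ := exists_gam_sy h2 II (e := tg jS) (Units.ext ((Units.val_pow_eq_pow_val _ _).trans j4)) JI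
    have DI : D.1 * I.1 = I.1 * D.1 := by rw [hI, hD]; simp only [mm]; grind
    exact ⟨Γ, I, jS, D, h2, h8, h1, sylA_sy h1, Or.inl ⟨ι, l, hι.symm, hI, rfl, hD⟩, II, jj,
      Subtype.ext JI, mem_Q1.2 (h5 _ 2 rfl (by
        rw [show 2 ^ 2 = 2 * 2 from rfl, pow_mul, pow_two I.1, show I.1 * I.1 = -1 from
          congrArg Subtype.val II]; simp)), h3,
      gm_iff.1 (h5 _ n DI (by rw [hD, diag_pow_sy, hn, Matrix.one_fin_two])), h3,
      h5 _ 1 (by rw [hI]; simp) (by simpa [pow_two] using rm_rm), h4, h5, DI,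
      by simpa [hD] using hl⟩
  · obtain ⟨D, n, hd, DI, hn⟩ := exists_D_sy h2
    obtain ⟨e, he⟩ := exists_gl_sy (a := (rm : M2 F)) (by simp [det_rm])
    obtain ⟨J, hJ⟩ := exists_sl (a := rm * D.1) (by simp [det_rm, hd])
    obtain ⟨Γ, h1, h3, h4, h5⟩ := exists_gam_sy h2 jj (e := e) (Units.ext (by
      rw [Units.val_pow_eq_pow_val, he, show 2 ^ 2 = 2 * 2 from rfl, pow_mul, pow_two rm, rm_rm]; simp))
      (he ▸ rm_jm)
    have mj : jS ∈ Q1 Γ := mem_Q1.2 (h5 _ 2 rfl j4)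
    have mr : Gm Γ rm := he ▸ .of h3
    refine ⟨Γ, jS, J, D, h2, h8, h1, sylA_sy h1, Or.inr ⟨hs, rfl, hJ, hd⟩, jj,
      Subtype.ext (show J.1 * J.1 = -1 from ?_), Subtype.ext (show J.1 * jm = -(jm * J.1) from ?_), mj,
      mem_Q1.2 (hJ ▸ mr.mul (h5 _ n DI hn)), gm_iff.1 (h5 _ n DI hn), mj, mr, h4, h5, DI, hd ▸ hs⟩
    · rw [hJ]
      generalize D.1 = a at *
      obtain ⟨p, q, r, s, rfl⟩ := ent a
      simp only [mm] at hd DI ⊢
      grind
    · rw [hJ, mul_assoc, DI, ← mul_assoc, rm_jm, neg_mul, mul_assoc]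

/-- `(AA Γ).map pr` is a Sylow subgroup of `pr.range` (`IsSyl.map`), which has odd index (`Su.odd_index` for `su_pr`), so of
`L₄(F)`; conjugate it to `T` by `a`. Put `κ k = ι⁻¹ (a * pr k * a⁻¹)` for `k ∈ AA Γ` (anything elsewhere). `fw`: for `g : G`
apply `hι` to `P = S ⊓ cj(g⁻¹, S)` and conjugation by `g`. `bw`: for `g₀` apply `hι` to
`P = {x ∈ S | g₀' ι x g₀'⁻¹ ∈ ι.range}` and the transported conjugation. -/
theorem exists_mo {G : Type*} [Group G] [Finite G] (S : Sylow 2 G)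
    (ι : ↥(S : Subgroup G) →* PSL(4, F)) (hι : (groupFusionSystem (S : Subgroup G)).IsRealizedBy ι)
    (T : Sylow 2 PSL(4, F)) (hT : (T : Subgroup PSL(4, F)) = ι.range)
    {Γ : Subgroup (GL (Fin 2) F)} {I J : SL(2, F)} {D : GL (Fin 2) F} (h : Sy Γ I J D) :
    ∃ κ : HK F → G, Mo Γ I J D κ := by
  have h1 := h.sylA.map (pr : HK F →* PSL(4, F))
  rw [← MonoidHom.range_eq_map] at h1
  have h3 : IsSyl 2 ((AA Γ).map (pr : HK F →* PSL(4, F))) ⊤ :=
    isSyl_of_not_dvd_relIndex h1.pgrp le_top (by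
      rw [relIndex_top_right, ← relIndex_mul_index h1.le]
      exact fun e => ((Nat.prime_two.dvd_mul).1 e).elim h1.not_dvd_relIndex
        (fun e => Nat.not_even_iff_odd.2 h.su.odd_index (even_iff_two_dvd.2 e)))
  obtain ⟨a, -, ha⟩ := (isSyl_top T).exists_cj_eq h3
  rw [hT] at ha
  have h4 : ∀ k : HK F, ∃ s : (S : Subgroup G), k ∈ AA Γ → ι s = a * pr k * a⁻¹ := fun k => by
    by_cases hk : k ∈ AA Γ
    · obtain ⟨s, hs⟩ : a * pr k * a⁻¹ ∈ ι.range := ha ▸ conj_mem_cj a (mem_map_of_mem _ hk)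
      exact ⟨s, fun _ => hs⟩
    · exact ⟨1, fun e => (hk e).elim⟩
  choose f hf using h4
  refine ⟨fun k => f k, ⟨h, fun x hx y hy => congrArg Subtype.val (hι.1 (show _ = ι (f x * f y) by
    rw [map_mul, hf _ (mul_mem hx hy), hf _ hx, hf _ hy, map_mul, conj_mul])), fun x hx y hy => ?_, ?_⟩,
    fun g => ?_, fun g₀ => ?_⟩
  · rw [← pr_eq, ← Subtype.ext_iff, ← hι.1.eq_iff, hf _ hx, hf _ hy, mul_left_inj, mul_right_inj]
  · have : im (fun k => (f k : G)) (AA Γ) = S := le_antisymm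
      ((closure_le _).2 (by rintro _ ⟨k, -, rfl⟩; exact (f k).2)) fun s hs => by
        obtain ⟨_, ⟨k, hk, rfl⟩, e⟩ := mem_cj_iff_exists.1 (ha.ge ⟨⟨s, hs⟩, rfl⟩)
        exact subset_closure ⟨k, hk, congrArg Subtype.val (hι.1 ((hf _ hk).trans e))⟩
    rw [this]
    exact isSyl_top S
  · obtain ⟨g₁, e⟩ := (hι.2 (S ⊓ (S : Subgroup G).comap (MulAut.conj g).toMonoidHom) inf_le_left
      ((MulAut.conj g).toMonoidHom.comp (Subgroup.subtype _)) fun x => x.2.2).1
      ⟨inf_le_left, fun x => x.2.2, g, fun x => rfl⟩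
    refine ⟨a⁻¹ * g₁ * a, fun x hx y hy r => ?_⟩
    have := e ⟨f x, (f x).2, show g * f x * g⁻¹ ∈ S from r ▸ (f y).2⟩
    rw [show ι _ = ι (f y) from congrArg ι (Subtype.ext r), hf _ hx, hf _ hy] at this
    rw [show pr y = a⁻¹ * (a * pr y * a⁻¹) * a by group, this]
    group
  · set g₁ := a * g₀ * a⁻¹ with hg
    set P := (ι.range.comap ((MulAut.conj g₁).toMonoidHom.comp ι)).map (S : Subgroup G).subtype
    have hP : P ≤ S := map_subtype_le _
    have h5 : ∀ x : P, ∃ s, ι s = g₁ * ι ⟨x, hP x.2⟩ * g₁⁻¹ := by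
      rintro ⟨_, x, hx, rfl⟩
      exact hx
    choose t ht using h5
    obtain ⟨-, -, g, e⟩ := (hι.2 P hP (MonoidHom.mk' (fun x => (t x : G)) fun x y =>
      congrArg Subtype.val (hι.1 (show _ = ι (t x * t y) by
        rw [map_mul, ht, ht, ht, conj_mul, ← map_mul]; rfl))) fun x => (t x).2).2 ⟨g₁, ht⟩
    refine ⟨g, fun x hx y hy r => ?_⟩
    have h6 : ι (f y) = g₁ * ι (f x) * g₁⁻¹ := by rw [hf _ hx, hf _ hy, ← r, hg]; group
    exact (e ⟨f x, f x, ⟨f y, h6⟩, rfl⟩).symm.trans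
      (congrArg Subtype.val (hι.1 ((ht _).trans h6.symm)))

end Cfsg.Agent.L4P
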