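import Mathlib
import Cfsg.Agent.L4P.Api
import Cfsg.Agent.FGS.HSub
import Cfsg.Agent.PLocal.CFBasic

/-! The subgroup `O²` of `C(z) / O(C(z))`. -/

set_option autoImplicit false
set_option linter.unusedSectionVars false

namespace Cfsg.Agent.L4P

open Subgroup Cfsg Cfsg.Agent.PLocal.Amb Cfsg.Agent.Lyons Cfsg.Agent.FW Cfsg.Agent.L4Q
open scoped MatrixGroups commutatorElement

variable {F : Type*} [Field F] [Fintype F] {Γ : Subgroup (GL (Fin 2) F)} {I J : SL(2, F)}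
  {D : GL (Fin 2) F} {G : Type*} [Group G] [Finite G] {β : HK F → G}

/-- fusion in `N = O²(G)` -/
structure SN (Γ : Subgroup (GL (Fin 2) F)) (β : HK F → G) (N : Subgroup G) : Prop where
  eq : N = 𝐎[2, (⊤ : Subgroup G)]
  mem : ∀ k ∈ AA Γ, β k ∈ N ↔ k ∈ LL
  sc : ∀ g ∈ N, ∀ X ∈ Q1 Γ, ∀ k ∈ AA Γ, g * β (i1 X) * g⁻¹ = β k → ∃ Y ∈ Q1 Γ, Sc k (i1 Y)
  re : ∀ c : SL(2, F), ∃ g ∈ N, (∀ Y ∈ Q1 Γ, Commute g (β (i2 Y))) ∧
    ∀ X ∈ Q1 Γ, c * X * c⁻¹ ∈ Q1 Γ → g * β (i1 X) * g⁻¹ = β (i1 (c * X * c⁻¹))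

namespace StA

theorem exists_two_pow (g : G) {n : ℕ} (hn : Odd n) :
    ∃ k t, Odd (orderOf (g ^ 2 ^ k)) ∧ 2 ^ k = n * t + 1 := by
  obtain ⟨k, hk⟩ := exists_pow_coprime (p := 2) g
  have h1 : 2 ^ ((k + 1) * n.totient) ≡ 1 [MOD n] := by
    rw [mul_comm, pow_mul]
    simpa using (Nat.ModEq.pow_totient (Nat.coprime_two_left.2 hn)).pow (k + 1)
  obtain ⟨t, ht⟩ := (Nat.modEq_iff_dvd' (Nat.one_le_two_pow)).1 h1.symm
  refine ⟨(k + 1) * n.totient, t, ?_, by have := Nat.one_le_two_pow (n := (k + 1) * n.totient); omega⟩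
  obtain ⟨m, hm⟩ : ∃ m, (k + 1) * n.totient = k + m :=
    Nat.exists_eq_add_of_le (by have := Nat.totient_pos.2 hn.pos; nlinarith)
  rw [hm, pow_add, pow_mul]
  exact (Nat.coprime_two_right.1 hk).of_dvd_nat (orderOf_pow_dvd _)

theorem res_le {S K : Subgroup G} (hS : IsSyl 2 S ⊤)
    (h : ∀ V ≤ S, ∀ g ∈ 𝐍[V], Odd (orderOf g) → ∀ x ∈ V, x⁻¹ * (g * x * g⁻¹) ∈ K) :
    𝐎[2, (⊤ : Subgroup G)] ⊓ S ≤ K := by
  obtain ⟨P, rfl⟩ := hS.exists_sylow_top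
  rw [pRes_top]
  refine FGS.HSub.inf_pResidual_le P fun V hV α hα ⟨g, hg⟩ x => ?_
  obtain ⟨k, t, o, e⟩ := exists_two_pow g (Nat.coprime_two_right.1 hα)
  have key : ∀ m : ℕ, ∀ x : V, ((α ^ m) x : G) = g ^ m * x * (g ^ m)⁻¹ := fun m => by
    induction m with
    | zero => simp
    | succ m ih => intro x; rw [pow_succ', MulAut.mul_apply, hg, ih, pow_succ']; group
  have k2 : ∀ x : V, (α x : G) = g ^ 2 ^ k * x * (g ^ 2 ^ k)⁻¹ := fun x => by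
    rw [← key, e, pow_succ, pow_mul, pow_orderOf_eq_one, one_pow, one_mul]
  have := h V hV (g ^ 2 ^ k) (mem_normalizer_of_cj_le (cj_le_iff_forall.2 fun y hy =>
    k2 ⟨y, hy⟩ ▸ (α ⟨y, hy⟩).2)) o x x.2
  rwa [← k2] at this

theorem syl_of {H : Type*} [Group H] [Finite H] {T L : Subgroup H} (h : IsSyl 2 T L) :
    PLocal.CF.Syl 2 T L := ⟨h.le, h.pgrp, h.not_dvd_relIndex⟩

theorem of_syl {H : Type*} [Group H] [Finite H] {T L : Subgroup H} (h : PLocal.CF.Syl 2 T L) :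
    IsSyl 2 T L := isSyl_of_not_dvd_relIndex h.pg h.le h.nd

theorem cj_i1 {k : HK F} (hk : k.s = false) (X : SL(2, F)) : ∃ Y, k * i1 X * k⁻¹ = i1 Y := by
  have := k.h
  obtain ⟨Y, hY⟩ := exists_sl (a := k.a * X.1 * (k.b.det • adj k.a)) (by
    simp only [Matrix.det_mul, det_smul2, det_adj, X.2]; grind)
  exact ⟨Y, mul_inv_eq_iff_eq_mul.2 (by
    ext1 <;> simp [hk, hY, mul_assoc, adj_mul, smul_smul, this, mul_comm k.b.det])⟩

theorem s_odd {c : HK F} (o : Odd (orderOf c)) : c.s = false := by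
  rw [← pow_s c o, pow_orderOf_eq_one]; rfl

theorem sylQ (h : Sy Γ I J D) : IsSyl 2 (Q1 Γ) ⊤ := by
  have hn : (tg : SL(2, F) →* GL (Fin 2) F).range.Normal := ⟨by
    rintro _ ⟨A, rfl⟩ M
    exact ⟨_, tg_cg M A⟩⟩
  have := (syl_of (h.sylΓ.inf_of_le (N := tg.range) le_top le_normalizer_of_normal)).comap tg
    (by rw [(MonoidHom.ker_eq_bot_iff _).2 tg_inj]; exact IsPGroup.of_bot) inf_le_right
  rw [comap_inf, MonoidHom.comap_range_self, inf_top_eq] at this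
  exact of_syl this

theorem res_sl (h2 : (2 : F) ≠ 0) : 𝐎[2, (⊤ : Subgroup SL(2, F))] = ⊤ := by
  have k : ∀ x : SL(2, F), x ^ ringChar F = 1 → x ∈ 𝐎[2, (⊤ : Subgroup SL(2, F))] := fun x e =>
    mem_pRes (mem_top x) (Nat.coprime_two_right.2 ((odd_char h2).of_dvd_nat (orderOf_dvd_of_pow_eq_one e)))
  refine eq_top_iff.2 fun x _ => CT.L.range_le (φ := MonoidHom.id _) (fun a => k _ ?_) (fun a => k _ ?_) ⟨x, rfl⟩
  exacts [Su.xx_p (MonoidHom.id _) a, Su.yy_p (MonoidHom.id _) a]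

theorem mem_LL_of {c x u : HK F} {m : ℕ} (o : Odd (orderOf c)) (hu : u.a.det ^ 2 ^ m = 1)
    (e : Sc (c * x * c⁻¹) (x * u)) : u ∈ LL := by
  have cs := s_odd o
  have d1 : c.a.det ^ orderOf c = 1 := by
    rw [← Matrix.det_pow, ← (pow_ab cs _).1, pow_orderOf_eq_one]; simp
  have e' := sc_mul e (Sc.refl c)
  rw [inv_mul_cancel_right] at e'
  obtain ⟨l, h1, h2, h3⟩ := e'
  have l4 := sc_pow h1 h2
  have us : u.s = false := by
    simp only [HK.mul_s, cs] at h3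
    cases hx : x.s <;> simpa [hx] using h3
  have h4 := congrArg Matrix.det h1
  have := c.h
  have := u.h
  have := x.da
  have := c.da
  cases hx : x.s
  · simp only [HK.mul_a, HK.mul_s, cs, us, hx, cond, Bool.xor_false, det_smul2, Matrix.det_mul] at h4
    exact ⟨us, l, l4, by grind⟩
  · simp only [HK.mul_a, HK.mul_s, cs, us, hx, cond, Bool.xor_false, det_smul2, Matrix.det_mul] at h4
    have h5 : c.a.det ^ 2 * u.a.det = l ^ 2 := by grind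
    have h6 : c.a.det ^ 2 ^ (m + 2) = 1 := by
      have := congrArg (· ^ 2 ^ (m + 1)) h5
      simp only [mul_pow, ← pow_mul] at this
      rw [pow_succ 2 m, pow_mul u.a.det, hu, one_pow, mul_one,
        show 2 * (2 ^ m * 2) = 4 * 2 ^ m by ring, pow_mul l, l4, one_pow] at this
      rwa [show 2 ^ (m + 2) = 4 * 2 ^ m by ring]
    have h7 : c.a.det = 1 := by
      simpa [(Nat.coprime_two_right.2 o).pow_right (m + 2)] using pow_gcd_eq_one.2 ⟨d1, h6⟩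
    exact ⟨us, l, l4, by rw [← h5, h7]; simp⟩

theorem scal_of (h : Sy Γ I J D) {b : M2 F} (h1 : b * I.1 = I.1 * b) (h2 : b * J.1 = J.1 * b) :
    Scal b := by
  have := h.two
  have h3 := h.DI
  obtain ⟨p, q, r, s, rfl⟩ := ent b
  rcases h.ty with ⟨ι, l, e1, e2, rfl, -⟩ | ⟨-, rfl, e2, e3⟩
  · simp only [e2, jS_coe, mm, scal_iff] at *
    grind
  · obtain ⟨x, y, z, u, hD⟩ := ent D.1
    simp only [e2, hD, jS_coe, mm, scal_iff] at *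
    grind

end StA

open StA

namespace XB

variable (h : XB Γ I J D β)
include h

/-- elements of odd order have realizers of odd order -/
theorem fw_odd {V : Subgroup G} (hV : V ≤ im β (AA Γ)) {g : G} (hg : g ∈ 𝐍[V]) (o : Odd (orderOf g)) :
    ∃ c : HK F, Odd (orderOf c) ∧ ∀ x ∈ AA Γ, ∀ y ∈ AA Γ, β x ∈ V → g * β x * g⁻¹ = β y →
      Sc (c * x * c⁻¹) y := by
  obtain ⟨c, hc⟩ := h.fw g
  obtain ⟨k, t, o', e⟩ := exists_two_pow c o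
  have key : ∀ m : ℕ, ∀ x ∈ AA Γ, ∀ y ∈ AA Γ, β x ∈ V → g ^ m * β x * (g ^ m)⁻¹ = β y →
      Sc (c ^ m * x * (c ^ m)⁻¹) y := fun m => by
    induction m with
    | zero => intro x hx y hy _ r; simpa using (h.eq x hx y hy).1 (by simpa using r)
    | succ m ih =>
      intro x hx y hy hxV r
      obtain ⟨u, hu, e⟩ := h.mem_S.1 (hV (conj_mem_of_mem_normalizer (pow_mem hg m) hxV))
      have := sc_trans (sc_mul (sc_mul (Sc.refl c) (ih x hx u hu hxV e.symm)) (Sc.refl c⁻¹))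
        (hc u hu y hy (by rw [e, ← r]; group))
      rwa [show c * (c ^ m * x * (c ^ m)⁻¹) * c⁻¹ = c ^ (m + 1) * x * (c ^ (m + 1))⁻¹ by group] at this
  refine ⟨_, o', fun x hx y hy hxV r => key _ x hx y hy hxV ?_⟩
  rwa [e, pow_succ, pow_mul, pow_orderOf_eq_one, one_pow, one_mul]

theorem mem_LL {k : HK F} (hk : k ∈ AA Γ) (e : β k ∈ 𝐎[2, (⊤ : Subgroup G)]) : k ∈ LL := by
  have := res_le (K := im β (AA Γ ⊓ LL)) h.syl (fun V hV g hg o x hx => by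
    obtain ⟨c, o', hc⟩ := h.fw_odd hV hg o
    obtain ⟨y, hy, e⟩ := h.mem_S.1 (hV (conj_mem_of_mem_normalizer hg hx))
    obtain ⟨x, hx', rfl⟩ := h.mem_S.1 (hV hx)
    have hu := mul_mem (inv_mem hx') hy
    obtain ⟨m, hm⟩ := h.det_pow hu.1
    refine (h.mem_im inf_le_left).2 ⟨_, ⟨hu, mem_LL_of o' hm (x := x) ?_⟩, ?_⟩
    · simpa using hc x hx' y hy hx e.symm
    · rw [h.mul _ (inv_mem hx') _ hy, h.inv hx', e]) ⟨e, h.mem_S.2 ⟨k, hk, rfl⟩⟩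
  obtain ⟨u, hu, r⟩ := (h.mem_im inf_le_left).1 this
  exact sat_LL _ _ ((h.eq _ hk _ hu.1).1 r.symm) hu.2

theorem i1_mem {X : SL(2, F)} (hX : X ∈ Q1 Γ) : β (i1 X) ∈ 𝐎[2, (⊤ : Subgroup G)] := by
  let K : Subgroup SL(2, F) :=
    { carrier := {X | X ∈ Q1 Γ ∧ β (i1 X) ∈ 𝐎[2, (⊤ : Subgroup G)]}
      one_mem' := ⟨one_mem _, by rw [map_one, h.one]; exact one_mem _⟩
      mul_mem' := fun {a b} ha hb => ⟨mul_mem ha.1 hb.1, by
        rw [map_mul, h.mul _ (i1_AA.2 ha.1) _ (i1_AA.2 hb.1)]; exact mul_mem ha.2 hb.2⟩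
      inv_mem' := fun {a} ha => ⟨inv_mem ha.1, by
        rw [map_inv, h.inv (i1_AA.2 ha.1)]; exact inv_mem ha.2⟩ }
  refine (res_le (K := K) (sylQ h.toSy) (fun V hV c hc o x hx => ?_)
    ⟨(res_sl h.two).ge (mem_top X), hX⟩).2
  obtain ⟨g, hg⟩ := h.bw (i1 c)
  obtain ⟨k, t, o', e⟩ := exists_two_pow g o
  have key : ∀ m : ℕ, g ^ m * β (i1 x) * (g ^ m)⁻¹ = β (i1 (c ^ m * x * (c ^ m)⁻¹)) := fun m => by
    induction m with
    | zero => simp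
    | succ m ih =>
      rw [← hg _ (i1_AA.2 (hV (conj_mem_of_mem_normalizer (pow_mem hc m) hx))) _
        (i1_AA.2 (hV (conj_mem_of_mem_normalizer (pow_mem hc (m + 1)) hx))) (by
          rw [← map_inv, ← map_mul, ← map_mul, show c * (c ^ m * x * (c ^ m)⁻¹) * c⁻¹ =
            c ^ (m + 1) * x * (c ^ (m + 1))⁻¹ by group]; exact Sc.refl _), ← ih]
      group
  have k2 := key (2 ^ k)
  rw [show c ^ 2 ^ k = c by rw [e, pow_succ, pow_mul, pow_orderOf_eq_one, one_pow, one_mul]] at k2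
  have h1 := hV hx
  have h2 := hV (conj_mem_of_mem_normalizer hc hx)
  refine ⟨mul_mem (inv_mem h1) h2, ?_⟩
  have gm := mem_pRes (mem_top _) (Nat.coprime_two_right.2 o')
  rw [map_mul, map_inv, h.mul _ (inv_mem (i1_AA.2 h1)) _ (i1_AA.2 h2), h.inv (i1_AA.2 h1), ← k2,
    ← mul_assoc, ← mul_assoc]
  exact mul_mem (inv_conj_mem_of_mem_normalizer (le_normalizer_pRes 2 ⊤ (mem_top _)) gm) (inv_mem gm)

theorem mem_iff {k : HK F} (hk : k ∈ AA Γ) : β k ∈ 𝐎[2, (⊤ : Subgroup G)] ↔ k ∈ LL := by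
  refine ⟨h.mem_LL hk, fun e => ?_⟩
  obtain ⟨X, Y, r⟩ := sc_of_LL e
  have h1 := h.sat (sc_symm r) hk
  have hX : X ∈ Q1 Γ := mem_Q1.2 (by simpa using h1.1)
  have hY : Y ∈ Q1 Γ := mem_Q1.2 (by simpa using h1.2)
  rw [h.of_sc h1 r, h.mul _ (i1_AA.2 hX) _ (i2_AA.2 hY), ← h.w_i1 hY]
  exact mul_mem (h.i1_mem hX)
    (conj_mem_of_mem_normalizer (le_normalizer_pRes 2 ⊤ (mem_top _)) (h.i1_mem hY))

theorem mem_P1 {g : G} : g ∈ im β ((Q1 Γ).map i1) ↔ ∃ X ∈ Q1 Γ, β (i1 X) = g := by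
  rw [h.mem_im (by rintro _ ⟨X, hX, rfl⟩; exact i1_AA.2 hX)]
  exact ⟨by rintro ⟨_, ⟨X, hX, rfl⟩, e⟩; exact ⟨X, hX, e⟩, fun ⟨X, hX, e⟩ => ⟨_, ⟨X, hX, rfl⟩, e⟩⟩

theorem mem_P2 {g : G} : g ∈ im β ((Q1 Γ).map i2) ↔ ∃ X ∈ Q1 Γ, β (i2 X) = g := by
  rw [h.mem_im (by rintro _ ⟨X, hX, rfl⟩; exact i2_AA.2 hX)]
  exact ⟨by rintro ⟨_, ⟨X, hX, rfl⟩, e⟩; exact ⟨X, hX, e⟩, fun ⟨X, hX, e⟩ => ⟨_, ⟨X, hX, rfl⟩, e⟩⟩

theorem P1_of {c y : HK F} {X : SL(2, F)} (hc : c.s = false) (hy : y ∈ AA Γ)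
    (e : Sc (c * i1 X * c⁻¹) y) : β y ∈ im β ((Q1 Γ).map i1) := by
  obtain ⟨Y, r⟩ := cj_i1 hc X
  rw [r] at e
  exact h.mem_P1.2 ⟨Y, i1_AA.1 (h.sat e hy), h.of_sc hy e⟩

theorem strong {g : G} (hg : g ∈ 𝐎[2, (⊤ : Subgroup G)]) {X : SL(2, F)} (hX : X ∈ Q1 Γ) {k : HK F}
    (hk : k ∈ AA Γ) (e : g * β (i1 X) * g⁻¹ = β k) : ∃ Y ∈ Q1 Γ, Sc k (i1 Y) := by
  have hS := syl_of (h.syl.inf_of_le le_top (le_normalizer_pRes 2 ⊤))
  have := PLocal.CF.alperin_ind hS _ (PLocal.CF.univ_family hS)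
    (fun T g => ∀ t ∈ T, t ∈ im β ((Q1 Γ).map i1) ↔ g * t * g⁻¹ ∈ im β ((Q1 Γ).map i1))
    (fun T T' g a _ _ _ r t ht => r t (a ht))
    (fun T g g' _ _ _ _ _ r r' t ht => by
      rw [r t ht, r' _ (conj_mem_cj g ht), ← conj_mul]; simp [mul_assoc])
    (fun T g _ _ _ r => by
      rintro _ ⟨t, ht, rfl⟩
      simpa [mul_assoc] using (r t ht).symm)
    (fun U _ hU hs _ x hx t ht => by
      have : x ∈ 𝐍[U ⊓ im β ((Q1 Γ).map i1)] := by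
        rw [← (of_syl hs).pRes_sup] at hx
        refine sup_le (pRes_le_iff.2 fun g hg o => ?_) (fun g hg => ?_) hx <;>
          refine mem_normalizer_of_cj_le (cj_le_iff_forall.2 fun u hu =>
            ⟨conj_mem_of_mem_normalizer hg.2 hu.1, ?_⟩) <;>
          obtain ⟨X, hX, rfl⟩ := h.mem_P1.1 hu.2
        · obtain ⟨c, o', hc⟩ := h.fw_odd (hU.trans inf_le_left) hg.2 (Nat.coprime_two_right.1 o)
          obtain ⟨y, hy, e⟩ := h.mem_S.1 (hU (conj_mem_of_mem_normalizer hg.2 hu.1)).1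
          exact e ▸ h.P1_of (s_odd o') hy (hc _ (i1_AA.2 hX) y hy hu.1 e.symm)
        · obtain ⟨c, hc, rfl⟩ := h.mem_S.1 hg.1.1
          rw [← h.conj hc (i1_AA.2 hX)]
          exact h.P1_of (h.mem_LL hc hg.1.2).1 (mul_mem (mul_mem hc (i1_AA.2 hX)) (inv_mem hc))
            (Sc.refl _)
      have := mem_normalizer_iff.1 this t
      exact ⟨fun a => (this.1 ⟨ht, a⟩).2, fun a => (this.2 ⟨conj_mem_of_mem_normalizer hx.2 ht, a⟩).2⟩)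
    (zpowers (β (i1 X))) g hg (zpowers_le.2 ⟨h.mem_S.2 ⟨_, i1_AA.2 hX, rfl⟩, h.i1_mem hX⟩)
    (by
      rw [show PLocal.CF.cj g (zpowers (β (i1 X))) = _ from cj_zp _ _, zpowers_le]
      exact ⟨h.mem_S.2 ⟨k, hk, e.symm⟩,
        conj_mem_of_mem_normalizer (le_normalizer_pRes 2 ⊤ (mem_top _)) (h.i1_mem hX)⟩)
    _ (mem_zpowers _)
  obtain ⟨Y, hY, r⟩ := h.mem_P1.1 (this.1 (h.mem_P1.2 ⟨X, hX, rfl⟩))
  exact ⟨Y, hY, (h.eq _ hk _ (i1_AA.2 hY)).1 (e.symm.trans r.symm)⟩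

theorem sylC2 : IsSyl 2 (im β (AA Γ) ⊓ 𝐂[im β ((Q1 Γ).map i2)]) 𝐂[im β ((Q1 Γ).map i2)] := by
  have hP : im β ((Q1 Γ).map i2) ≤ im β (AA Γ) := fun g hg => by
    obtain ⟨X, hX, rfl⟩ := h.mem_P2.1 hg
    exact h.mem_S.2 ⟨_, i2_AA.2 hX, rfl⟩
  obtain ⟨T, hT⟩ := exists_isSyl 2 𝐂[im β ((Q1 Γ).map i2)]
  obtain ⟨x, -, hx⟩ := h.syl.exists_cj_le (isPGroup_sup hT.pgrp (h.syl.pgrp.to_le hP)
    (hT.le.trans (centralizer_le_normalizer' _))) le_top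
  obtain ⟨y, hy, hy'⟩ : ∃ y ∈ 𝐍[im β ((Q1 Γ).map i2)], cj(y, T) ≤ im β (AA Γ) := by
    obtain ⟨c, hc⟩ := h.fw x
    have k1 : ∀ X ∈ Q1 Γ, ∃ u ∈ AA Γ, x * β (i2 X) * x⁻¹ = β u ∧ Sc (c * ws * i1 X * (c * ws)⁻¹) u :=
      fun X hX => by
        obtain ⟨u, hu, e⟩ := h.mem_S.1 (hx (conj_mem_cj x (mem_sup_right (h.mem_P2.2 ⟨X, hX, rfl⟩))))
        refine ⟨u, hu, e.symm, ?_⟩
        rw [show c * ws * i1 X * (c * ws)⁻¹ = c * (ws * i1 X * ws⁻¹) * c⁻¹ by group, ws_i1]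
        exact hc _ (i2_AA.2 hX) u hu e.symm
    have k2 := (cj_mono x le_sup_left).trans hx
    cases hs : c.s
    · refine ⟨x, mem_normalizer_of_cj_le (cj_le_iff_forall.2 fun g hg => ?_), k2⟩
      obtain ⟨X, hX, rfl⟩ := h.mem_P2.1 hg
      obtain ⟨u, hu, e, r⟩ := k1 X hX
      obtain ⟨Y, e'⟩ := swap_i1 (k := c * ws) (by simp [hs]) X
      rw [e'] at r
      exact h.mem_P2.2 ⟨Y, i2_AA.1 (h.sat r hu), (h.of_sc hu r).trans e.symm⟩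
    · refine ⟨β ws * x, mem_normalizer_of_cj_le (cj_le_iff_forall.2 fun g hg => ?_),
        cj_mul _ _ T ▸ cj_le_of_mem k2 (h.mem_S.2 ⟨_, ws_AA, rfl⟩)⟩
      obtain ⟨X, hX, rfl⟩ := h.mem_P2.1 hg
      obtain ⟨u, hu, e, r⟩ := k1 X hX
      obtain ⟨Y, hY, e'⟩ := h.mem_P1.1 (h.P1_of (by simp [hs]) hu r)
      exact h.mem_P2.2 ⟨Y, hY, by rw [← h.w_i1 hY, e', ← e]; group⟩
  have := hT.cj_of_mem_normalizer (normalizer_le_normalizer_centralizer _ hy)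
  exact this.of_card_ge (h.syl.pgrp.to_le inf_le_left) inf_le_right
    (card_le_of_le (le_inf hy' this.le))

theorem cen_el {k : HK F} (hk : k ∈ AA Γ) (e : ∀ Y ∈ Q1 Γ, Commute (β k) (β (i2 Y))) :
    ∃ A ∈ Q1 Γ, ∀ X, k * i1 X * k⁻¹ = i1 (A * X * A⁻¹) := by
  have e' := fun Y hY => (h.comm_iff hk (i2_AA.2 hY)).1 (e Y hY)
  have ha := k.da
  have hs : k.s = false := by
    by_contra hs
    obtain ⟨l, h1, h2, -⟩ := e' I h.mI
    simp only [HK.mul_a, Bool.not_eq_false, i2_s, i2_a, i2_b, cond] at h1 hs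
    simp only [hs, one_mul] at h1
    have h3 : I.1 = l • 1 := mul_cancel_det ha (by simpa using h1)
    have h4 := congrArg Subtype.val h.II
    have h5 := I.2
    have := h.two
    simp only [Matrix.SpecialLinearGroup.coe_mul, Matrix.SpecialLinearGroup.coe_neg,
      Matrix.SpecialLinearGroup.coe_one, h3, mm] at h4 h5
    grind
  have c1 : ∀ Y ∈ Q1 Γ, k.b * Y.1 = Y.1 * k.b := fun Y hY => by
    obtain ⟨l, h1, h2, -⟩ := e' Y hY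
    simp only [HK.mul_a, HK.mul_b, hs, i2_s, i2_a, i2_b, cond, one_mul] at h1 h2
    obtain rfl : 1 = l := smul_one_inj (mul_cancel_det ha (by simpa using h1))
    simpa using h2
  obtain ⟨l, hl⟩ := scal_of h.toSy (c1 I h.mI) (c1 J h.mJ)
  obtain ⟨n, hn⟩ := h.toSy.pow hk.2
  have h1 := k.h
  rw [hl, det_smul2, Matrix.det_one] at h1
  obtain ⟨A, hA⟩ := exists_sl (a := l • k.a) (by rw [det_smul2]; grind)
  refine ⟨A, mem_Q1.2 (hA ▸ h.smul (n := n) (smul_one_inj (by simpa [hl, smul_pow] using hn)) hk.1),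
    fun X => ?_⟩
  obtain ⟨Y, hY⟩ := cj_i1 hs X
  have := congrArg HK.a (mul_inv_eq_iff_eq_mul.1 hY)
  rw [hY, show A * X * A⁻¹ = Y from mul_inv_eq_iff_eq_mul.2 (Subtype.ext (by
    simpa [hA, hs] using congrArg (l • ·) this))]

theorem real (c : SL(2, F)) : ∃ g ∈ 𝐎[2, (⊤ : Subgroup G)], (∀ Y ∈ Q1 Γ, Commute g (β (i2 Y))) ∧
    ∀ X ∈ Q1 Γ, c * X * c⁻¹ ∈ Q1 Γ → g * β (i1 X) * g⁻¹ = β (i1 (c * X * c⁻¹)) := by
  have mc : ∀ g, g ∈ 𝐂[im β ((Q1 Γ).map i2)] ↔ ∀ Y ∈ Q1 Γ, Commute g (β (i2 Y)) := fun g =>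
    ⟨fun a Y hY => (mem_centralizer_iff.1 a _ (h.mem_P2.2 ⟨Y, hY, rfl⟩)).symm, fun a =>
      mem_centralizer_iff.2 fun u hu => by
        obtain ⟨Y, hY, rfl⟩ := h.mem_P2.1 hu
        exact (a Y hY).symm⟩
  obtain ⟨g, hg⟩ := h.bw (i1 c)
  have g1 : g ∈ 𝐂[im β ((Q1 Γ).map i2)] := (mc g).2 fun Y hY =>
    comm_of_cj (hg _ (i2_AA.2 hY) _ (i2_AA.2 hY) (by rw [cj_eq (i_comm c Y)]; exact Sc.refl _))
  rw [← h.sylC2.pRes_sup, mem_sup_of_le_normalizer_left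
    (inf_le_right.trans (le_normalizer_pRes 2 _))] at g1
  obtain ⟨n, hn, s, hs, rfl⟩ := g1
  obtain ⟨k, hk, rfl⟩ := h.mem_S.1 hs.1
  obtain ⟨A, hA, e⟩ := h.cen_el hk ((mc _).1 hs.2)
  refine ⟨n * β (i1 A), mul_mem (pRes_mono le_top hn) (h.i1_mem hA), fun Y hY =>
    ((mc _).1 (pRes_le 2 _ hn) Y hY).mul_left (h.comm_of (i1_AA.2 hA) (i2_AA.2 hY) (i_comm A Y)),
    fun X hX hX' => ?_⟩
  have := hg _ (i1_AA.2 hX) _ (i1_AA.2 hX') (by rw [map_mul, map_mul, map_inv]; exact Sc.refl _)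
  rw [← this, show n * β k * β (i1 X) * (n * β k)⁻¹ = n * (β k * β (i1 X) * (β k)⁻¹) * n⁻¹ by group,
    ← h.conj hk (i1_AA.2 hX), e, map_mul i1, map_mul i1, map_inv, h.conj (i1_AA.2 hA) (i1_AA.2 hX)]
  group

end XB

/-- the fusion in `O²(G)` -/
theorem XB.sn (h : XB Γ I J D β) : SN Γ β 𝐎[2, (⊤ : Subgroup G)] :=
  ⟨rfl, fun _ hk => h.mem_iff hk, fun _ hg _ hX _ hk e => h.strong hg hX hk e, h.real⟩

end Cfsg.Agent.L4P
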