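import Mathlib
import Cfsg.Agent.L4P.StA
import Cfsg.Agent.L4Q.Fus

/-! Consequences of the link between the Sylow subgroup and the components. -/

set_option autoImplicit false
set_option linter.unusedSectionVars false

namespace Cfsg.Agent.L4P

open Subgroup Cfsg Cfsg.Agent.PLocal.Amb Cfsg.Agent.Lyons Cfsg.Agent.FW Cfsg.Agent.L4Q
open scoped MatrixGroups commutatorElement

variable {F : Type*} [Field F] [Fintype F] {Γ : Subgroup (GL (Fin 2) F)} {I J : SL(2, F)}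
  {D : GL (Fin 2) F} {G : Type*} [Group G] [Finite G] {κ : HK F → G}
  {K : Type*} [Field K] [Fintype K] {φ : SL(2, K) →* G}

namespace ZA

theorem four_of (h4 : ∀ c : F, c ^ 4 ≠ -1) : ∀ (n : ℕ) (l : F), l ^ 2 ^ n = 1 → l ^ 4 = 1
  | 0, l, e => by rw [show l = 1 by simpa using e, one_pow]
  | n + 1, l, e => by
    have := four_of h4 n (l ^ 2) (by rw [← pow_mul, ← pow_succ', e])
    have := h4 l
    grind

theorem dpow (p s : F) (m : ℕ) : (!![p, 0; 0, s] : M2 F) ^ m = !![p ^ m, 0; 0, s ^ m] := by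
  induction m with
  | zero => simp [mm]
  | succ m ih => simp [pow_succ, ih]

theorem tyII (h : Sy Γ I J D) (h1 : IsSquare (-1 : F)) : ∃ ι : F, ι * ι = -1 ∧ I.1 = ι • rm ∧ J = jS := by
  rcases h.ty with ⟨ι, _, a, b, c, -⟩ | ⟨a, -⟩
  exacts [⟨ι, a, b, c⟩, absurd h1 a]

theorem tyI (h : Sy Γ I J D) (h1 : ¬ IsSquare (-1 : F)) : I = jS ∧ D.1.det = -1 := by
  rcases h.ty with ⟨ι, _, a, -⟩ | ⟨-, a, -, b⟩
  exacts [absurd ⟨ι, a.symm⟩ h1, ⟨a, b⟩]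

theorem not_scal_I (h : Sy Γ I J D) : ¬ Scal I.1 := by
  rintro ⟨l, h3⟩
  have h4 := congrArg Subtype.val h.II
  have h5 := I.2
  have := h.two
  simp only [Matrix.SpecialLinearGroup.coe_mul, Matrix.SpecialLinearGroup.coe_neg,
    Matrix.SpecialLinearGroup.coe_one, h3, mm] at h4 h5
  grind

theorem syl_cent {R C : Subgroup G} (hR : IsSyl 2 R C) {t a : G} (ht : t ∈ R) (ha : a ∈ R)
    (h1 : ∀ b ∈ R, b * a ∈ 𝐳[t] ∨ b ∈ 𝐳[t]) (h2 : ∀ g ∈ C, g * t * g⁻¹ ∉ R ⊓ 𝐂[R]) :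
    IsSyl 2 (R ⊓ 𝐳[t]) (C ⊓ 𝐳[t]) := by
  obtain ⟨T, hT, le⟩ := exists_isSyl_ge (hR.pgrp.to_le inf_le_left) (inf_le_inf_right 𝐳[t] hR.le)
  obtain ⟨g, hg, e⟩ := hR.exists_cj_le hT.pgrp (hT.le.trans inf_le_left)
  refine hT.of_card_ge (hR.pgrp.to_le inf_le_left) (inf_le_inf_right _ hR.le) ?_
  have c1 := Grp.card_mul_relIndex e
  have c2 := Grp.card_mul_relIndex (inf_le_left : R ⊓ 𝐳[t] ≤ R)
  have c3 := Nat.le_of_dvd two_pos ((relIndex_dvd_two_iff (H := R ⊓ 𝐳[t])).2 ⟨a, ha, fun b hb =>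
    (h1 b hb).imp (fun r => ⟨mul_mem hb ha, r⟩) fun r => ⟨hb, r⟩⟩)
  have c4 : cj(g, T).relIndex R ≠ 1 := fun r => h2 g hg
    ⟨e (conj_mem_cj g (le ⟨ht, mem_cent.2 (Commute.refl t)⟩)), fun x hx => by
      obtain ⟨y, hy, rfl⟩ := mem_cj_iff_exists.1 (relIndex_eq_one.1 r hx)
      exact (cj_comm (mem_cent.1 (hT.le hy).2) g).symm⟩
  have c5 : cj(g, T).relIndex R ≠ 0 := fun r => by
    rw [r, mul_zero] at c1; exact Nat.card_pos.ne c1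
  rw [card_cj] at c1
  obtain ⟨m, hm⟩ : ∃ m, cj(g, T).relIndex R = m + 2 := ⟨cj(g, T).relIndex R - 2, by omega⟩
  rw [hm] at c1
  nlinarith

end ZA

open ZA StA

theorem JS.nr_cj {w g c : G} (j : JS φ w) (hg : Commute g (φ (-1))) (hc : Nr φ c) :
    Nr φ (g * c * g⁻¹) := by
  by_cases r : Nr φ g
  · exact (r.mul hc).mul r.inv
  · exact j.nr_mul (hg.mul_left hc.cz) hg.inv_left (j.not_nr_mul r hc) fun a => r (by simpa using a.inv)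

theorem mem_cenL {c : G} : c ∈ 𝐂[φ.range] ↔ Ce φ c :=
  ⟨fun a A => (a _ ⟨A, rfl⟩ : Commute _ _).symm, by rintro a _ ⟨A, rfl⟩; exact (a A).symm⟩

namespace Hm

variable (h : Hm Γ I J D κ) (j : JS φ (κ ws)) (l : LK Γ D κ φ)
include h j l

theorem sylN : IsSyl 2 (im κ (AA Γ) ⊓ 𝐍[φ.range]) 𝐍[φ.range] :=
  h.sylC.inf_of_le (fun _ hc => mem_cent.2 (l.neg ▸ ((nr_iff j.inj).2 hc).cz.symm)) fun _ hg =>
    mem_normalizer_of_cj_le (cj_le_iff_forall.2 fun _ hc => (nr_iff j.inj).1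
      (j.nr_cj (l.neg ▸ (mem_cent.1 hg).symm) ((nr_iff j.inj).2 hc)))

theorem sylCL : IsSyl 2 (im κ (AA Γ) ⊓ 𝐂[φ.range]) 𝐂[φ.range] := by
  have := (h.sylN j l).inf_of_le (centralizer_le_normalizer' _) (normalizer_le_normalizer_centralizer _)
  rwa [inf_assoc, inf_eq_right.2 (centralizer_le_normalizer' _)] at this

theorem sylQ : ∃ Q : Subgroup SL(2, K), IsSyl 2 Q ⊤ ∧ ∀ A ∈ Q, ∃ X ∈ Q1 Γ, φ A = κ (i1 X) := by
  have := (syl_of ((h.sylN j l).inf_of_le le_normalizer le_rfl)).comap φ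
    (by rw [(MonoidHom.ker_eq_bot_iff _).2 j.inj]; exact IsPGroup.of_bot) inf_le_right
  rw [MonoidHom.comap_range_self] at this
  refine ⟨_, of_syl this, fun A hA => ?_⟩
  obtain ⟨k, hk, e⟩ := h.mem_S.1 hA.1.1
  obtain ⟨X, hX, r⟩ := l.l2 k hk ⟨A, e.symm⟩
  exact ⟨X, hX, e.symm.trans (h.of_sc (i1_AA.2 hX) r)⟩

theorem ce (k : HK F) (hk : k ∈ AA Γ) (hs : k.s = false) (ha : Scal k.a) : Ce φ (κ k) := by
  obtain ⟨n, hn⟩ := h.two_el hk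
  obtain ⟨M, a⟩ := j.actG hn ((l.nr k hk).2 hs)
  have k1 : ∀ X ∈ Q1 Γ, Commute (κ k) (κ (i1 X)) := fun X hX =>
    h.comm_of hk (i1_AA.2 hX) (by ext1 <;> simp [hs, ha.comm])
  obtain ⟨I₀, e1⟩ := l.l1 I h.mI
  obtain ⟨J₀, e2⟩ := l.l1 J h.mJ
  refine a.of_isScal (by_contra fun ns => h.z1 ?_)
  have := congrArg φ (Subtype.ext (KSG.M2.comm_of_comm ns (a.of_comm j.inj (e1 ▸ k1 I h.mI))
    (a.of_comm j.inj (e2 ▸ k1 J h.mJ))) : I₀ * J₀ = J₀ * I₀)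
  rw [map_mul, map_mul, e1, e2, ← h.mul _ (i1_AA.2 h.mI) _ (i1_AA.2 h.mJ),
    ← h.mul _ (i1_AA.2 h.mJ) _ (i1_AA.2 h.mI), ← map_mul, ← map_mul, h.JI, ← mul_neg_one (I * J),
    map_mul i1 _ (-1), h.mul _ (i1_AA.2 (mul_mem h.mI h.mJ)) _ (i1_AA.2 h.neg_Q)] at this
  exact left_eq_mul.1 this

theorem ce' {k : HK F} (hk : k ∈ AA Γ) (hs : k.s = false) (hb : Scal k.b) :
    Ce (cjh (κ ws) φ) (κ k) := fun A => by
  have := cj_comm (h.ce j l (ws⁻¹ * k * ws) (mul_mem (mul_mem (inv_mem ws_AA) hk) ws_AA) (by simp [hs])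
    (by simpa [inv_eq_of_mul_eq_one_right (ws_ws (F := F))] using hb) A) (κ ws)
  rwa [← h.conj ws_AA (mul_mem (mul_mem (inv_mem ws_AA) hk) ws_AA),
    show ws * (ws⁻¹ * k * ws) * ws⁻¹ = k by group] at this

theorem of_ce {k : HK F} (hk : k ∈ AA Γ) (e : Ce φ (κ k)) :
    k.s = false ∧ ∃ (m : F) (n : ℕ), k.a = m • 1 ∧ m ^ 2 ^ n = 1 := by
  have k1 : ∀ X ∈ Q1 Γ, ¬ Scal X.1 → k.a * X.1 = X.1 * k.a := fun X hX ns => by
    obtain ⟨A, r⟩ := l.l1 X hX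
    exact (h.su.comm_i1 (h.su.comm_iff.2 ((h.comm_iff hk (i1_AA.2 hX)).1 (r ▸ e A))) ns).2
  obtain ⟨m, hm⟩ := scal_of h.toSy (k1 I h.mI (not_scal_I h.toSy)) (k1 J h.mJ fun s => by
    have h1 := congrArg Subtype.val h.JI
    have h2 := congrArg Matrix.det h1
    simp only [Matrix.SpecialLinearGroup.coe_mul, Matrix.SpecialLinearGroup.coe_neg, s.comm] at h1
    have h3 := (I * J).2
    have := h.two
    rw [Matrix.SpecialLinearGroup.coe_mul] at h3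
    generalize I.1 * J.1 = a at *
    obtain ⟨p, q, r, u, rfl⟩ := ent a
    simp only [mm] at h1 h3
    grind)
  obtain ⟨n, hn⟩ := h.toSy.pow hk.1
  exact ⟨(l.nr k hk).1 e.nr, m, n, hm, smul_one_inj (by simpa [hm, smul_pow] using hn)⟩

theorem i2_mem {Y : SL(2, F)} (hY : Y ∈ Q1 Γ) : κ (i2 Y) ∈ (cjh (κ ws) φ).range := by
  rw [← h.w_i1 hY, range_cjh]
  exact conj_mem_cj _ (l.l1 Y hY)

theorem mem_JL {k : HK F} (hk : k ∈ AA Γ) (e : k ∈ LL) : κ k ∈ JL φ (κ ws) := by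
  obtain ⟨X, Y, r⟩ := sc_of_LL e
  have h1 := h.sat (sc_symm r) hk
  have hX : X ∈ Q1 Γ := mem_Q1.2 (by simpa using h1.1)
  have hY : Y ∈ Q1 Γ := mem_Q1.2 (by simpa using h1.2)
  rw [h.of_sc h1 r, h.mul _ (i1_AA.2 hX) _ (i2_AA.2 hY)]
  exact mul_mem (mem_sup_left (l.l1 X hX)) (mem_sup_right (h.i2_mem j l hY))

theorem cq (h4 : ∀ c : F, c ^ 4 ≠ -1) : Cq φ (κ ws) := fun c n hc e => by
  obtain ⟨g, hg, r, r'⟩ := exists_conj_mem (h.sylCL j l) (mem_cenL.2 e) hc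
  obtain ⟨k, hk, e⟩ := h.mem_S.1 r
  obtain ⟨hs, m, n, e1, e2⟩ := h.of_ce j l hk (e ▸ mem_cenL.1 r')
  replace e2 := four_of h4 n m e2
  have h1 := k.h
  rw [e1, det_smul2, Matrix.det_one] at h1
  have m0 : m ≠ 0 := by rintro rfl; simp at e2
  obtain ⟨Y, hY⟩ := exists_sl (a := m⁻¹ • k.b) (by rw [det_smul2]; grind)
  have s : Sc k (i2 Y) := ⟨m, by simp [e1], by simp [hY, m0], hs⟩
  have h2 := h.sat (sc_symm s) hk
  have := inv_conj_mem_of_mem_normalizer ((nr_iff j.inj').1 (j.nr' (mem_cenL.1 hg).nr))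
    (h.i2_mem j l (i2_AA.1 h2))
  rw [← h.of_sc h2 s, e] at this
  simpa [mul_assoc] using this

theorem n_not (h1 : ¬ IsSquare (-1 : F)) : κ t2 ∉ JL φ (κ ws) := fun e => by
  have h2 := mul_mem h.t2_AA (inv_mem (dd_AA h.mD false))
  have h3 := mul_mem (inv_mem (h.mem_JL j l h2 ⟨rfl, 1, by simp, by
    simp [HK.inv_a, Matrix.det_neg, det_adj, det_rm, (tyI h.toSy h1).2]⟩)) e
  rw [h.mul _ h.t2_AA _ (inv_mem (dd_AA h.mD false)), h.inv (dd_AA h.mD false)] at h3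
  obtain ⟨A, B, r⟩ := j.mem_JL.1 h3
  refine l.out (tg A * 1) ?_ (by rw [mul_one]; exact sq_det_tg A)
  rw [show κ (dd D false) = φ A * cjh (κ ws) φ B by rw [← r]; group]
  exact (actG_self A).mul (actG_of_comm (j.ce B))

theorem eight (h8 : ¬ IsSquare (-1 : F) ∨ ∃ c : F, c ^ 4 = -1) : ∃ A : SL(2, K), A ^ 4 = -1 := by
  obtain ⟨X, h1, h2⟩ : ∃ X : SL(2, F), X.1 * I.1 = I.1 * X.1 ∧ X.1 ^ 4 = -1 := by
    rcases h8 with h1 | ⟨c, hc⟩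
    · have h2 := h.m8
      have h3 := h.two
      obtain ⟨r, hr⟩ := (FiniteField.isSquare_two_iff (F := F)).2 (by
        rw [FiniteField.isSquare_neg_one_iff] at h1; omega)
      obtain ⟨X, hX⟩ := exists_sl (a := !![r⁻¹, r⁻¹; -r⁻¹, r⁻¹]) (by simp only [mm]; grind)
      refine ⟨X, ?_, ?_⟩ <;> simp only [hX, (tyI h.toSy h1).1, jS_coe, pow_succ, pow_zero, mm] <;> grind
    · obtain ⟨ι, -, e, -⟩ := tyII h.toSy ⟨c ^ 2, by rw [← hc]; ring⟩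
      obtain ⟨X, hX⟩ := exists_sl (a := !![c, 0; 0, -c ^ 3]) (by simp only [mm]; grind)
      refine ⟨X, ?_, ?_⟩ <;> simp only [hX, e, pow_succ, pow_zero, mm] <;> grind
  have hX := mem_Q1.2 (h.tor _ 3 h1 (by rw [show 2 ^ 3 = 4 * 2 from rfl, pow_mul, h2]; simp))
  obtain ⟨A, e⟩ := l.l1 X hX
  refine ⟨A, j.inj ?_⟩
  rw [map_pow, e, ← h.pow (i1_AA.2 hX), ← map_pow, show X ^ 4 = -1 from Subtype.ext h2, l.neg, i1_neg]

theorem no_eight (h1 : IsSquare (-1 : F)) (h4 : ∀ c : F, c ^ 4 ≠ -1) (A : SL(2, K)) (hA : A ^ 8 = 1) :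
    A ^ 4 = 1 := by
  obtain ⟨Q, hQ, e⟩ := h.sylQ j l
  obtain ⟨g, -, r⟩ := exists_conj_mem hQ (mem_top A) (k := 3) hA
  obtain ⟨X, hX, r⟩ := e _ r
  have : X ^ 4 = 1 := Subtype.ext (by
    obtain ⟨ι, e1, e2, -⟩ := tyII h.toSy h1
    obtain ⟨n, hn⟩ := h.toSy.pow (mem_Q1.1 hX)
    have h2 := h.nrm _ (mem_Q1.1 hX)
    have h3 := X.2
    have := h.two
    rw [Matrix.SpecialLinearGroup.coe_pow, Matrix.SpecialLinearGroup.coe_one]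
    generalize X.1 = a at *
    obtain ⟨p, q, r, s, rfl⟩ := ent a
    rcases h2 with h2 | h2 <;> simp only [e2, mm] at h2 h3
    · obtain ⟨rfl, rfl⟩ : q = 0 ∧ r = 0 := by grind
      rw [dpow] at hn ⊢
      simp only [mm] at hn ⊢
      simp [four_of h4 _ _ hn.1, four_of h4 _ _ hn.2.2.2]
    · simp only [pow_succ, pow_zero, mm]
      grind)
  have h2 := congrArg (· ^ 4) r
  simp only [← map_pow, ← h.pow (i1_AA.2 hX), this, map_one, h.one, map_eq_one_iff _ j.inj, conj_pow] at h2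
  simpa using h2

theorem inv_J (h1 : IsSquare (-1 : F)) (h4 : ∀ c : F, c ^ 4 ≠ -1) {c : G} (cc : c * c = 1) (hc : Nr φ c) :
    c ∈ JL φ (κ ws) := by
  obtain ⟨g, hg, k, hk, e⟩ := h.exists_cj_el (n := 1) (by rw [pow_one, sq, cc]) (l.neg ▸ hc.cz)
  rw [← l.neg] at hg
  have hs := (l.nr k hk).1 (e ▸ j.nr_cj hg hc)
  have h2 := (h.sq_iff hk).1 (by rw [← e, conj_mul, cc]; simp)
  have h3 : k ∈ LL := by
    rcases or_assoc.2 (inv_H0 h.two hs h2) with r | ⟨u, hu, r⟩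
    · exact (sc3 h.two h4 hs h2 r).elim (sat_LL _ _ · (one_mem _)) (sat_LL _ _ · (i1_LL (-1)))
    · obtain ⟨ι, hι⟩ := h1
      have : u * k * u⁻¹ ∈ LL := r.elim (· ▸ jj_LL) (· ▸ ⟨rfl, ι, by grind, by simp [det_rm, hι, sq]⟩)
      simpa [mul_assoc] using mul_mem (mul_mem (inv_mem hu) this) hu
  simpa [← e, mul_assoc] using inv_conj_mem_of_mem_normalizer (j.norm_JL hg) (h.mem_JL j l hk h3)

omit j l in
theorem mem_Z {g : G} : g ∈ im κ (Zs Γ) ↔ ∃ a m e, dg a a a m e ∈ AA Γ ∧ κ (dg a a a m e) = g := by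
  rw [h.mem_im (U := Zs Γ) fun _ e => e.1]
  exact ⟨by rintro ⟨_, ⟨r, a, m, e, rfl⟩, r'⟩; exact ⟨a, m, e, r, r'⟩,
    fun ⟨a, m, e, r, r'⟩ => ⟨_, ⟨r, a, m, e, rfl⟩, r'⟩⟩

omit j l in
theorem tor_Z {k : HK F} (hk : k ∈ AA Γ) (e : k ∈ Tor) : κ k ∈ 𝐂[im κ (Zs Γ)] := fun g hg => by
  obtain ⟨a, m, r, r', rfl⟩ := h.mem_Z.1 hg
  exact h.comm_of r' hk (Tor_comm ⟨_, _, _, _, _, rfl⟩ e)

end Hm

/-- the involution of `Z` -/
def tz {c : F} (hc : c ^ 4 = -1) : HK F := dg c c c (-c) (by grind)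

section tz

variable {c : F} (hc : c ^ 4 = -1)

theorem tz_a : (tz hc).a = c • 1 := by simp [tz, mm]
theorem tz_b : (tz hc).b = c • rm := by simp [tz, mm]
theorem tz_s : (tz hc).s = false := rfl

variable (h : Hm Γ I J D κ) (j : JS φ (κ ws)) (l : LK Γ D κ φ)
include h

theorem Hm.tz_AA : tz hc ∈ AA Γ :=
  ⟨tz_a hc ▸ h.scal (n := 3) (by grind), tz_b hc ▸ h.smul (n := 3) (by grind) h.mr⟩

theorem Hm.tz_Z : κ (tz hc) ∈ im κ (Zs Γ) := h.mem_Z.2 ⟨_, _, _, h.tz_AA hc, rfl⟩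

theorem Hm.tz_sq : κ (tz hc) * κ (tz hc) = 1 :=
  (h.sq_iff (h.tz_AA hc)).2 ⟨c * c, by simp [tz, mm]⟩

theorem Hm.tz_ne : ¬ (κ (tz hc) = 1 ∨ κ (tz hc) = κ t0) := by
  rw [h.one_iff (h.tz_AA hc), h.eq _ (h.tz_AA hc) _ h.t0_AA]
  have := h.two
  rintro (⟨m, -, e, -⟩ | ⟨m, -, e, -⟩) <;> simp only [tz, dg_b, HK.one_b, t0_b, mm] at e <;> grind

include j l hc

/-- `S ⊓ C(L₁) ⊓ C(Z)` is a Sylow subgroup of `C(L₁) ⊓ C(Z)` -/
theorem Hm.exists_dg {s : G} {n : ℕ} (hs : s ^ 2 ^ n = 1) (h1 : Ce φ s) (h2 : s ∈ 𝐂[im κ (Zs Γ)]) :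
    ∃ g, Ce φ g ∧ g ∈ 𝐂[im κ (Zs Γ)] ∧ ∃ a x y e, dg a a x y e ∈ AA Γ ∧ g * s * g⁻¹ = κ (dg a a x y e) := by
  obtain ⟨ι, hι, eI, eJ⟩ := tyII h.toSy ⟨c ^ 2, by rw [← hc]; ring⟩
  have two := h.two
  have mR : ∀ {k}, k ∈ AA Γ → k.s = false → Scal k.a → κ k ∈ im κ (AA Γ) ⊓ 𝐂[φ.range] := fun hk a b =>
    ⟨h.mem_S.2 ⟨_, hk, rfl⟩, mem_cenL.2 (h.ce j l _ hk a b)⟩
  have mt := mR (h.tz_AA hc) rfl ⟨_, tz_a hc⟩
  have syl := syl_cent (h.sylCL j l) mt (mR (i2_AA.2 h.mj) rfl ⟨1, by simp⟩) (fun b hb => by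
    obtain ⟨k, hk, rfl⟩ := h.mem_S.1 hb.1
    obtain ⟨ks, m, -, e, -⟩ := h.of_ce j l hk (mem_cenL.1 hb.2)
    have := h.nrm _ hk.2
    rw [← h.mul _ hk _ (i2_AA.2 h.mj)]
    refine this.symm.imp (fun r => mem_cent.2 (h.comm_of (h.tz_AA hc) (mul_mem hk (i2_AA.2 h.mj)) ?_))
      fun r => mem_cent.2 (h.comm_of (h.tz_AA hc) hk ?_) <;> obtain ⟨p, q, u, v, e'⟩ := ent k.b <;>
      ext1 <;> simp only [HK.mul_a, HK.mul_b, HK.mul_s, ks, tz, dg_a, dg_b, dg_s, cond, e, e', eI,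
        i2_a, i2_b, i2_s, jS_coe, mm, Bool.xor_false] at r ⊢ <;> grind) fun g hg r => by
    obtain ⟨k, hk, e⟩ := h.mem_S.1 r.1.1
    obtain ⟨ks, m, -, e1, -⟩ := h.of_ce j l hk (e ▸ mem_cenL.1 r.1.2)
    have k1 : ∀ Y ∈ Q1 Γ, k.b * Y.1 = Y.1 * k.b := fun Y hY => by
      obtain ⟨u, h1, h2, -⟩ := (h.comm_iff (i2_AA.2 hY) hk).1
        (e ▸ r.2 _ (mR (i2_AA.2 hY) rfl ⟨1, by simp⟩))
      simp only [HK.mul_a, HK.mul_b, ks, i2_s, i2_a, i2_b, cond, one_mul] at h1 h2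
      obtain rfl : 1 = u := smul_one_inj (mul_cancel_det k.da (by simpa using h1))
      simpa using h2.symm
    have h3 := j.uq (κ k) (by rw [e, conj_mul, h.tz_sq]; simp) (e ▸ mem_cenL.1 r.1.2)
      (h.ce' j l hk ks (scal_of h.toSy (k1 I h.mI) (k1 J h.mJ)))
    rw [e, ← cj_eq (mem_cenL.1 hg (-1)), l.neg] at h3
    exact h.tz_ne hc (by simpa using h3)
  have key : ∀ g ∈ im κ (AA Γ) ⊓ 𝐂[φ.range] ⊓ 𝐳[κ (tz hc)],
      ∃ a x y e, dg a a x y e ∈ AA Γ ∧ g = κ (dg a a x y e) := fun g hg => by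
    obtain ⟨k, hk, rfl⟩ := h.mem_S.1 hg.1.1
    obtain ⟨ks, m, -, e1, -⟩ := h.of_ce j l hk (mem_cenL.1 hg.1.2)
    obtain ⟨u, h1, h2, -⟩ := (h.comm_iff (h.tz_AA hc) hk).1 (mem_cent.1 hg.2)
    have h3 := k.h
    obtain ⟨p, q, r, v, e'⟩ := ent k.b
    simp only [HK.mul_a, HK.mul_b, ks, tz, dg_a, dg_b, dg_s, cond, e1, e', mm] at h1 h2 h3
    obtain rfl : u = 1 := by grind
    obtain ⟨rfl, rfl⟩ : q = 0 ∧ r = 0 := by grind
    have : k = dg m m p v (by grind) := by ext1 <;> simp [e1, e', ks, mm]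
    exact ⟨_, _, _, _, this ▸ hk, congrArg κ this⟩
  obtain ⟨g, hg, r⟩ := exists_conj_mem (syl.mono (K := 𝐂[φ.range] ⊓ 𝐂[im κ (Zs Γ)]) (fun g hg => ⟨hg.1.2, by
    obtain ⟨a, x, y, e, r, rfl⟩ := key g hg
    exact h.tor_Z r ⟨_, _, _, _, _, rfl⟩⟩) fun g hg => ⟨hg.1, mem_cent.2 (hg.2 _ (h.tz_Z hc))⟩)
    ⟨mem_cenL.2 h1, h2⟩ hs
  exact ⟨g, mem_cenL.1 hg.1, hg.2, key _ r⟩

theorem Hm.nr_tz {g : G} (h1 : Commute g (φ (-1))) (h2 : Commute g (κ (tz hc))) : Nr φ g := by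
  by_contra e
  have h3 := h.ce j l _ (h.tz_AA hc) rfl ⟨_, tz_a hc⟩
  refine h.tz_ne hc (l.neg ▸ j.uq _ (h.tz_sq hc) h3 fun B => ?_)
  obtain ⟨A, r⟩ := j.swap' h1.inv_left (fun a => e (by simpa using a.inv)) B
  have := cj_comm (h3 A) g
  rw [← r, cj_eq h2] at this
  simpa [mul_assoc] using this

end tz

theorem Mo.comm_i (h : Mo Γ I J D κ) (j : JS φ (κ ws)) (l : LK Γ D κ φ) {c : F} (hc : c ^ 4 = -1) {g : G}
    (h1 : Commute g (φ (-1))) (h2 : Commute g (κ (tz hc))) : Commute g (κ (i2 I)) := by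
  obtain ⟨ι, hι, eI, -⟩ := tyII h.toSy ⟨c ^ 2, by rw [← hc]; ring⟩
  have hI := i2_AA.2 h.mI
  have o2 := j.nr' (h.nr_tz hc j l h1 h2)
  have t1 := h.ce' j l (mul_mem (h.tz_AA hc) hI) rfl ⟨c * ι, by simp [tz_b, tz_s, eI, smul_smul, rm_rm, mul_comm]⟩
  rw [h.mul _ (h.tz_AA hc) _ hI] at t1
  obtain ⟨B, eB⟩ := h.i2_mem j l h.mI
  obtain ⟨B', r⟩ := o2.ex B
  have t2 : Ce (cjh (κ ws) φ) (κ (tz hc) * cjh (κ ws) φ B') := fun X => by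
    obtain ⟨Y, y⟩ := o2.inv.ex X
    have := cj_comm (t1 Y) g
    rw [← y, ← conj_mul, ← eB, r, cj_eq h2] at this
    simpa [mul_assoc] using this
  have t3 := j.cen_JL (y := cjh (κ ws) φ (B⁻¹ * B')) (mem_sup_right ⟨_, rfl⟩) (j.ce _) fun X => by
    simpa [mul_assoc, ← eB] using (t1 X).inv_left.mul_left (t2 X)
  rw [map_mul, map_inv, ← r, eB, inv_mul_eq_iff_eq_mul, inv_mul_eq_iff_eq_mul, mul_one, l.neg,
    ← h.mul _ hI _ h.t0_AA] at t3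
  refine comm_of_cj (t3.resolve_right fun e => ?_)
  obtain ⟨k, hk⟩ := h.fwC (l.neg ▸ h1)
  have e1 := sc_mul (hk _ hI _ (mul_mem hI h.t0_AA) e) (Sc.refl k)
  have e2 := sc_mul (hk _ (h.tz_AA hc) _ (h.tz_AA hc) (cj_eq h2)) (Sc.refl k)
  rw [inv_mul_cancel_right] at e1 e2
  obtain ⟨u, a1, a2, -⟩ := e1
  obtain ⟨v, b1, b2, -⟩ := e2
  have two := h.two
  have da := k.da
  have db := k.db
  obtain ⟨p, q, r, s, ea⟩ := ent k.a
  obtain ⟨x, y, z, w, eb⟩ := ent k.b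
  cases ks : k.s <;> simp only [HK.mul_a, HK.mul_b, HK.mul_s, ks, tz, dg_a, dg_b, dg_s, cond, ea, eb, eI,
    i2_a, i2_b, i2_s, t0_a, t0_b, t0_s, mm, Bool.xor_false] at a1 a2 b1 b2 da db
  · obtain rfl : u = -1 := by grind
    obtain rfl : v = 1 := by grind
    grind
  · grind

theorem Mo.zf (h : Mo Γ I J D κ) (j : JS φ (κ ws)) (l : LK Γ D κ φ) {c : F} (hc : c ^ 4 = -1) {ρ : G}
    (hρ : ρ ∈ 𝐂[im κ (Zs Γ)]) : ZF φ (κ ws) (κ t2) ρ (im κ (Zs Γ)) := by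
  have two := h.two
  have pZ : IsPGroup 2 (im κ (Zs Γ)) := h.syl.pgrp.to_le fun g hg => by
    obtain ⟨a, m, r, r', rfl⟩ := h.mem_Z.1 hg
    exact h.mem_S.2 ⟨_, r', rfl⟩
  have cZ : ∀ {g τ}, g ∈ 𝐂[im κ (Zs Γ)] → τ ∈ im κ (Zs Γ) → Commute g τ := fun a b => (a _ b).symm
  have ct : ∀ {g}, g ∈ 𝐂[im κ (Zs Γ)] → Commute g (κ (tz hc)) := fun a => cZ a (h.tz_Z hc)
  have hL : ∀ A, φ A ∈ 𝐂[im κ (Zs Γ)] := fun A g hg => by
    obtain ⟨a, m, r, r', rfl⟩ := h.mem_Z.1 hg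
    exact h.ce j l _ r' rfl ⟨a, by simp [mm]⟩ A
  refine ⟨pZ, fun g hg => ?_, hL, hρ, fun e => ?_, fun g hg e => ?_,
    fun g hg e => h.nr_tz hc j l e (ct hg), fun s hs s1 s2 => ?_, fun g hg e s hs s1 s2 => ?_,
    _, h.tz_Z hc, ?_⟩
  · obtain ⟨a, m, r, r', rfl⟩ := h.mem_Z.1 hg
    exact h.tor_Z r' ⟨_, _, _, _, _, rfl⟩
  · obtain ⟨a, m, r, r', e⟩ := h.mem_Z.1 e
    obtain ⟨u, h1, h2, -⟩ := (h.eq _ r' _ h.t0_AA).1 (e.trans l.neg)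
    simp only [dg_a, dg_b, t0_a, t0_b, mm] at h1 h2
    grind
  · obtain ⟨a, m, r, r', e⟩ := h.mem_Z.1 e
    rw [eq_mul_inv_iff_mul_eq, l.neg, ← h.mul _ r' _ h.t0_AA] at e
    have := mul_mem r' h.t0_AA
    rw [l.neg]
    exact comm_of_cj (e ▸ (h.eq_pr this h.t0_AA).2 (h.su.iso ((h.isConj_iff' h.t0_AA this).1
      (e ▸ isConj_cj _ _)) rfl (Or.inl ⟨-a, by simp [mm]⟩)))
  · obtain ⟨n, hn⟩ := isPGroup_iff.1 pZ _ s2
    obtain ⟨g, g1, g2, a, x, y, e, r, r'⟩ := h.exists_dg hc j l (n := n + 1)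
      (by rw [pow_succ', pow_mul, sq, hn]) s1 hs
    obtain ⟨a', m, e', r1, r2⟩ := h.mem_Z.1 s2
    rw [← cj_eq (cZ g2 s2), ← conj_mul, r', ← h.mul _ r _ r] at r2
    obtain ⟨u, h1, h2, -⟩ := (h.eq _ (mul_mem r r) _ r1).1 r2.symm
    simp only [HK.mul_a, HK.mul_b, dg_a, dg_b, dg_s, cond, mm] at h1 h2
    have back : ∀ {s}, g * s * g⁻¹ ∈ im κ (Zs Γ) → s ∈ im κ (Zs Γ) := fun a => by
      simpa [mul_assoc] using inv_conj_mem_of_mem_normalizer (centralizer_le_normalizer' _ g2) a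
    obtain rfl | rfl : x = a ∨ a = -x := by grind
    · exact Or.inl (back (h.mem_Z.2 ⟨_, _, _, r, r'.symm⟩))
    · have : dg (-x) (-x) x y e * t0 = dg x x x y (by grind) := by ext1 <;> simp [mm]
      refine Or.inr (back (h.mem_Z.2 ⟨_, _, _, this ▸ mul_mem r h.t0_AA, ?_⟩))
      rw [← this, h.mul _ r _ h.t0_AA, ← conj_mul, r', cj_eq (g1 _), l.neg]
  · obtain ⟨n, hn⟩ := isPGroup_iff.1 pZ _ s2
    have sz := s1 (-1)
    obtain ⟨g', g1, g2, a, x, y, e0, r, r'⟩ := h.exists_dg hc j l (n := n + 2) (by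
      have := congrArg (· ^ 2) hn
      simp only [← pow_mul, mul_comm _ 2] at this
      rw [pow_mul, (sz.mul_left sz).mul_pow, sq (φ _), j.zz, mul_one, ← sq s, ← pow_mul, ← pow_mul] at this
      rw [← one_pow 2, ← this]; congr 1; ring) s1 hs
    obtain ⟨a', m, e', r1, r2⟩ := h.mem_Z.1 s2
    rw [← cj_eq (cZ g2 s2), ← conj_mul, ← conj_mul, r', cj_eq (g1 _), l.neg, ← h.mul _ r _ r,
      ← h.mul _ (mul_mem r r) _ h.t0_AA] at r2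
    obtain ⟨u, h1, h2, -⟩ := (h.eq _ (mul_mem (mul_mem r r) h.t0_AA) _ r1).1 r2.symm
    simp only [HK.mul_a, HK.mul_b, HK.mul_s, dg_a, dg_b, dg_s, t0_a, t0_b, cond, mm, Bool.xor_false] at h1 h2
    obtain ⟨ι, hι, eI, -⟩ := tyII h.toSy ⟨c ^ 2, by rw [← hc]; ring⟩
    have hI := i2_AA.2 h.mI
    have key : ∀ g ∈ 𝐂[im κ (Zs Γ)], Commute g (φ (-1)) → Commute g (κ (dg a a x y e0)) := fun g hg e => by
      have ci := h.comm_i j l hc e (ct hg)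
      obtain rfl | rfl : x = -ι * a ∨ x = ι * a := by grind
      · have h3 : dg a a (-ι * a) y e0 * i2 I = dg a a a (-ι * y) (by grind) := by
          ext1 <;> simp only [HK.mul_a, HK.mul_b, HK.mul_s, dg_a, dg_b, dg_s, i2_a, i2_b, i2_s, cond, eI,
            mm, Bool.xor_false] <;> grind
        have := cZ hg (h.mem_Z.2 ⟨_, _, _, h3 ▸ mul_mem r hI, rfl⟩)
        rw [← h3, h.mul _ r _ hI] at this
        simpa using this.mul_right ci.inv_right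
      · have h3 : dg a a (ι * a) y e0 = dg a a a (ι * y) (by grind) * i2 I := by
          ext1 <;> simp only [HK.mul_a, HK.mul_b, HK.mul_s, dg_a, dg_b, dg_s, i2_a, i2_b, i2_s, cond, eI,
            mm, Bool.xor_false] <;> grind
        have h4 := mul_mem r (inv_mem hI)
        rw [h3, mul_inv_cancel_right] at h4
        rw [h3, h.mul _ h4 _ hI]
        exact (cZ hg (h.mem_Z.2 ⟨_, _, _, h4, rfl⟩)).mul_right ci
    have := key g hg e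
    rwa [← cj_eq (key _ (inv_mem g2) (g1 _).inv_left), ← r', show g'⁻¹ * (g' * s * g'⁻¹) * g'⁻¹⁻¹ = s by
      group] at this
  · rw [← h.inv h.t2_AA, ← h.mul _ (h.tz_AA hc) _ (inv_mem h.t2_AA)]
    exact h.ce' j l (mul_mem (h.tz_AA hc) (inv_mem h.t2_AA)) rfl
      ⟨c, by simp [inv_eq_of_mul_eq_one_right (t2_t2 (F := F)), tz_b, tz_s, rm_rm]⟩

end Cfsg.Agent.L4P
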