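import Mathlib
import Cfsg.Agent.L4P.Api
import Cfsg.Agent.Mult.SL2
import Cfsg.Agent.FW.Tor
import Cfsg.Agent.FW.Mat

/-! Lifting the components to `C(z)`. -/

set_option autoImplicit false
set_option linter.unusedSectionVars false

namespace Cfsg.Agent.L4P

open Subgroup Cfsg Cfsg.Agent.PLocal.Amb Cfsg.Agent.Lyons Cfsg.Agent.FW Cfsg.Agent.L4Q
open scoped MatrixGroups commutatorElement

variable {F : Type*} [Field F] [Fintype F] {Γ : Subgroup (GL (Fin 2) F)} {I J : SL(2, F)}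
  {D : GL (Fin 2) F} {G : Type*} [Group G] [Finite G] {κ : HK F → G}
  {K : Type} [Field K] [Fintype K]

theorem lf_two {C : Type*} [Group C] [Finite C] {g h : C} {m n : ℕ} (e : QuotientGroup.mk' (oddCore C) g =
    QuotientGroup.mk' _ h) (c : h ∈ 𝐂[oddCore C]) (hg : g ^ 2 ^ m = 1) (hh : h ^ 2 ^ n = 1) : g = h := by
  obtain ⟨o, ho, rfl⟩ := (QuotientGroup.mk'_eq_mk' _).1 e.symm
  have := congrArg (· ^ 2 ^ n) hg
  simp only [← pow_mul, one_pow] at this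
  rw [(show Commute o h from c o ho).symm.mul_pow, mul_comm, pow_mul, hh, one_pow, one_mul, ← pow_add] at this
  rw [FW.eq_one_of_odd (Lyons.odd_orderOf (oc_top (G := C) ▸ odd_oc ⊤) ho) this, mul_one]

theorem lf_eq {C : Type*} [Group C] {O : Subgroup C} [O.Normal]
    (h4 : 4 ≤ Nat.card K) {φ ψ : SL(2, K) →* C} (h1 : ∀ A, φ A ∈ 𝐂[O]) (h2 : ∀ A, ψ A ∈ 𝐂[O])
    (e : ∀ A, QuotientGroup.mk' O (φ A) = QuotientGroup.mk' O (ψ A)) (A : SL(2, K)) : φ A = ψ A := by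
  have m : ∀ A, φ A * (ψ A)⁻¹ ∈ O := fun A => (QuotientGroup.eq_one_iff _).1 (by
    change QuotientGroup.mk' O _ = 1
    rw [map_mul, map_inv, e, mul_inv_cancel])
  let f : SL(2, K) →* C := MonoidHom.mk' (fun A => φ A * (ψ A)⁻¹) fun A B => by
    rw [map_mul, map_mul, _root_.mul_inv_rev, mul_assoc (φ A) (ψ A)⁻¹, ← inv_mem (h2 A) _ (m B)]; group
  have : _root_.commutator SL(2, K) ≤ f.ker := commutator_le.2 fun A _ B _ => by
    rw [MonoidHom.mem_ker, map_commutatorElement, commutatorElement_eq_one_iff_mul_comm]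
    exact mul_mem (h1 B) (inv_mem (h2 B)) _ (m A)
  exact mul_inv_eq_one.1 (this ((Class.Dickson.SL2_commutator_eq_top h4).ge (mem_top A)))

theorem lf_index {p : ℕ} [CharP K p] (hp : p.Prime) : (upperUnipotentSL2 K).index.Coprime p := by
  have h1 := (upperUnipotentSL2 K).card_mul_index
  rw [Mult.card_upper, Class.U.card_SL_two] at h1
  rw [Nat.eq_of_mul_eq_mul_left Nat.card_pos h1]
  have := Fact.mk hp
  obtain ⟨n, -, hn⟩ := FiniteField.card K p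
  rw [Nat.card_eq_fintype_card, hn, ← pow_mul]
  exact ((Nat.coprime_self_sub_left (Nat.one_le_pow _ _ hp.pos)).2 (Nat.coprime_one_left _)).coprime_dvd_right
    (dvd_pow_self p (by have := n.pos; omega))

/-- a biadditive map invariant under all scalars is trivial -/
theorem lf_alt (h : 7 < Nat.card K) {A : Type*} [Group A] {f : K → K → A}
    (h1 : ∀ a b c, f (a + b) c = f a c * f b c) (h2 : ∀ a b c, f a (b + c) = f a b * f a c)
    (h3 : ∀ (c : Kˣ) a b, f (c * a) (c * b) = f a b) (a b : K) : f a b = 1 := by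
  obtain ⟨c, hc⟩ := exists_pow_ne_one_of_isCyclic (G := Kˣ) (k := 6) (by decide) (by rw [Nat.card_units]; omega)
  have hc' : (c : K) ^ 6 ≠ 1 := fun e => hc (Units.ext e)
  have c0 := c.ne_zero
  have c1 : (c : K) + 1 ≠ 0 := fun e => hc' (by grind)
  have c2 : (c : K) ^ 2 + c + 1 ≠ 0 := fun e => hc' (by grind)
  obtain ⟨b, rfl⟩ : ∃ b', b = b' + (c * (c * b') + c * b') := ⟨b / (c ^ 2 + c + 1), by
    linear_combination -div_mul_cancel₀ b c2⟩
  have e := h3 (Units.mk0 _ c1) a (c * b)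
  rw [Units.val_mk0, add_mul, add_mul, one_mul, one_mul, h1, h2, h2, h3, h3, mul_assoc, mul_eq_left] at e
  rw [h2, h2, e]

theorem lf_split {C X : Type*} [Group C] [Finite C] [Group X] {π : C →* X} (hc : π.ker ≤ center C)
    {φ : SL(2, K) →* X} (inj : Function.Injective φ) (h4 : 4 < Nat.card K) (top : ∀ A, ∃ g, π g = φ A)
    (h9 : Nat.card K = 9 → ∃ g M, ActG φ (π g) M ∧ ¬ IsSquare M.1.det) :
    ∃ ρ : SL(2, K) →* C, ∀ A, π (ρ A) = φ A := by
  let E := φ.range.comap π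
  let σ : E →* SL(2, K) := (MonoidHom.ofInjective inj).symm.toMonoidHom.comp
    ((π.comp E.subtype).codRestrict φ.range fun g => g.2)
  have hσ : ∀ g, φ (σ g) = π g := fun g => MonoidHom.apply_ofInjective_symm inj _
  choose s hs using top
  have ss : Function.Surjective σ := fun A => ⟨⟨s A, A, (hs A).symm⟩, inj ((hσ _).trans (hs A))⟩
  have hc' : σ.ker ≤ center E := fun g hg => mem_center_iff.2 fun a => Subtype.ext
    (mem_center_iff.1 (hc ((hσ g).symm.trans (by rw [hg, map_one]))) a)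
  have c1 := Mult.card_ker_inf_commutator_dvd ss hc'
  have c2 : σ.ker ⊓ _root_.commutator E = ⊥ := by
    by_cases h : Nat.card K = 9
    swap
    · rwa [Mult.mcard_SL2 h4.ne' h, Nat.dvd_one, card_eq_one] at c1
    obtain ⟨d, M, hM, hn⟩ := h9 h
    obtain ⟨p, hp⟩ := CharP.exists K
    have hp' := CharP.char_is_prime K p
    have := Fact.mk hp'
    refine (card_le_one_iff_eq_bot _).1 (Mult.pb_SL2 hp' _ c1 (hp'.coprime_iff_not_dvd.2 fun r => ?_).symm)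
    have sq : ∀ N : GL (Fin 2) K, IsSquare N.1.det → ∃ g, ActG φ (π g) N := fun N ⟨r, hr⟩ => by
      have h0 : r ≠ 0 := fun h0 => det_ne N (by rw [hr, h0, mul_zero])
      let B : SL(2, K) := ⟨r⁻¹ • N.1, by rw [Matrix.det_smul, Fintype.card_fin, hr]; field_simp⟩
      exact ⟨s B, hs B ▸ (actG_self B).congr (r := r) (smul_inv_smul₀ h0 _).symm⟩
    have all : ∀ N : GL (Fin 2) K, ∃ g, ActG φ (π g) N := fun N => by
      by_cases e : IsSquare N.1.det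
      · exact sq N e
      obtain ⟨g, hg⟩ := sq (M⁻¹ * N) ((sq_det_mul _ _).2 (by rw [sq_det_inv]; exact iff_of_false hn e))
      exact ⟨d * g, by simpa using hM.mul hg⟩
    have hf := Mult.commute_of_alt hc (s := fun a : K => s (RootSub.xx a))
      (fun a b => by rw [hs, hs, hs, ← map_mul, RootSub.xx_mul]) (P := fun μ => ∃ c : Kˣ, μ = fun a => (c : K) * a)
      (by
        rintro _ ⟨c, rfl⟩
        exact (all (dm c)).imp fun g hg a => by rw [map_mul, map_mul, map_inv, hs, hs, hg, cg_dm_xx])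
      fun f h1 h2 _ h5 => lf_alt (by omega) h1 h2 fun c => h5 _ ⟨c, rfl⟩
    obtain ⟨⟨a, ha⟩, oa⟩ := exists_prime_orderOf_dvd_card' p r
    rw [← orderOf_coe] at oa
    have := (Mult.inf_commutator_le_of_coprime (A := zpowers a) (X := (upperUnipotentSL2 K).comap σ)
      (zpowers_le.2 (hc' ha.1)) (by
        rw [index_comap_of_surjective _ ss, Nat.card_zpowers, oa]; exact lf_index hp')
      ⟨mem_zpowers a, ha.2⟩).2
    rw [show ⁅(upperUnipotentSL2 K).comap σ, (upperUnipotentSL2 K).comap σ⁆ = ⊥ from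
      le_bot_iff.1 (commutator_le.2 fun g hg k hk => by
        obtain ⟨a, ha⟩ := RootSub.mem_upper.1 hg
        obtain ⟨b, hb⟩ := RootSub.mem_upper.1 hk
        exact commutatorElement_eq_one_iff_commute.2 (Subtype.ext (Mult.commute_congr hc
          (by rw [hs, ← hσ, ha]) (by rw [hs, ← hσ, hb]) (hf a b)).eq))] at this
    simp [mem_bot.1 this, hp'.ne_one.symm] at oa
  let e := MulEquiv.ofBijective (σ.comp (_root_.commutator E).subtype)
    ⟨(injective_iff_map_eq_one _).2 fun g hg => Subtype.ext (c2.le ⟨hg, g.2⟩), fun A => by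
      have : (_root_.commutator E).map σ = ⊤ := by
        rw [map_commutator_eq, MonoidHom.range_eq_top.2 ss]; exact Class.Dickson.SL2_commutator_eq_top h4.le
      obtain ⟨g, hg, r⟩ := this.ge (mem_top A)
      exact ⟨⟨g, hg⟩, r⟩⟩
  exact ⟨E.subtype.comp ((_root_.commutator E).subtype.comp e.symm.toMonoidHom),
    fun A => (hσ _).symm.trans (congrArg φ (e.apply_symm_apply A))⟩

/-- `O = O(C(z))`, `C = C_{C(z)}(O)`; the image of `C` contains `L₁`, and the central extension splits. -/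
theorem Hm.lift (h : Hm Γ I J D κ) {φ : SL(2, K) →* 𝐳[κ t0] ⧸ oddCore 𝐳[κ t0]}
    (x : XS φ (br (κ t0) (κ ws))) (l : LK Γ D (fun k => br (κ t0) (κ k)) φ)
    (hO : oc 𝐳[κ t0] = ⊥ ∨ (3 < Fintype.card K ∧ κ (i1 I * i2 I) ∈ 𝐂[oc 𝐳[κ t0]] ∧
      (Fintype.card K = 9 → κ (dd D false) ∈ 𝐂[oc 𝐳[κ t0]]))) :
    ∃ ψ : SL(2, K) →* G, JS ψ (κ ws) ∧ LK Γ D κ ψ ∧ ∀ o ∈ oc 𝐳[κ t0], Ce ψ o := by
  let π := QuotientGroup.mk' (oddCore 𝐳[κ t0])
  have sj : Function.Surjective π := QuotientGroup.mk'_surjective _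
  have mz : ∀ {k}, k ∈ AA Γ → κ k ∈ 𝐳[κ t0] := fun hk => mem_cent.2 (h.cz hk).symm
  have bπ : ∀ {k} (hk : k ∈ AA Γ), br (κ t0) (κ k) = π ⟨_, mz hk⟩ := fun hk => br_eq (mz hk)
  have nm : 𝐂[oddCore 𝐳[κ t0]].Normal := inferInstance
  obtain ⟨ρ, r1, r2, U⟩ : ∃ ρ : SL(2, K) →* 𝐳[κ t0], (∀ A, ρ A ∈ 𝐂[oddCore 𝐳[κ t0]]) ∧ (∀ A, π (ρ A) = φ A) ∧
      ∀ {φ ψ : SL(2, K) →* 𝐳[κ t0]}, (∀ A, φ A ∈ 𝐂[oddCore 𝐳[κ t0]]) → (∀ A, ψ A ∈ 𝐂[oddCore 𝐳[κ t0]]) →
        (∀ A, π (φ A) = π (ψ A)) → ∀ A, φ A = ψ A := by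
    rcases hO with hO | ⟨h3, hI, hD⟩
    · have hO' : ∀ o ∈ oddCore 𝐳[κ t0], o = 1 := fun o ho => Subtype.ext (hO.le ⟨o, ho, rfl⟩)
      have inj : Function.Injective π :=
        (injective_iff_map_eq_one _).2 fun o ho => hO' o ((QuotientGroup.eq_one_iff _).1 ho)
      exact ⟨(MulEquiv.ofBijective π ⟨inj, sj⟩).symm.toMonoidHom.comp φ, fun A o ho => by simp [hO' o ho],
        fun A => (MulEquiv.ofBijective π ⟨inj, sj⟩).apply_symm_apply _, fun _ _ e A => inj (e A)⟩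
    have h4 : 4 < Nat.card K := by
      obtain ⟨n, hn⟩ := x.odd
      rw [Nat.card_eq_fintype_card]; omega
    have cO : ∀ {k} (hk : k ∈ AA Γ), κ k ∈ 𝐂[oc 𝐳[κ t0]] → (⟨_, mz hk⟩ : 𝐳[κ t0]) ∈ 𝐂[oddCore 𝐳[κ t0]] :=
      fun hk r o ho => Subtype.ext (r o ⟨o, ho, rfl⟩)
    have m1 := i1_AA.2 h.mI
    have m2 := i2_AA.2 h.mI
    have nm' := nm.map _ sj
    have top : (𝐂[oddCore 𝐳[κ t0]].map π).comap φ = ⊤ :=
      (normal_cases h4.le _ (nm'.comap φ)).resolve_right fun r => by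
        obtain ⟨A, hA⟩ := l.l1 I h.mI
        have e1 : φ A * cjh (br (κ t0) (κ ws)) φ A ∈ 𝐂[oddCore 𝐳[κ t0]].map π := ⟨_, cO (mul_mem m1 m2) hI, by
          rw [← bπ (mul_mem m1 m2), h.mul _ m1 _ m2, br_mul (h.cz m1) (h.cz m2), ← h.w_i1 h.mI,
            br_conj (h.cz ws_AA) (h.cz m1), cjh_apply, hA]⟩
        have e2 : ∀ g, g * A * g⁻¹ * A⁻¹ ∈ center SL(2, K) := fun g => r (by
          have := mul_mem (nm'.conj_mem _ e1 (φ g)) (inv_mem e1)
          rwa [mul_assoc (φ g), mul_assoc (φ A), ← map_inv, ← (x.comm g⁻¹ A).eq, mul_inv_rev, ← mul_assoc (φ A),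
            ← mul_assoc, ← mul_assoc, mul_inv_cancel_right, ← map_inv, ← map_mul, ← map_mul, ← map_mul,
            ← mul_assoc] at this)
        have e3 := lf_eq (O := center SL(2, K)) h4.le (φ := MonoidHom.id _) (ψ := (MulAut.conj A).toMonoidHom)
          (fun g o ho => (mem_center_iff.1 ho _).symm) (fun g o ho => (mem_center_iff.1 ho _).symm) fun g =>
            (QuotientGroup.mk'_eq_mk' _).2 ⟨_, e2 g⁻¹, by simp [mul_assoc]⟩
        have e4 : A * A = 1 := Inv.SL2_sq_eq_one (mem_center_iff.2 fun g => eq_mul_inv_iff_mul_eq.1 (e3 g))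
        refine x.z1 ?_
        have e5 : κ t0 = κ (i1 I) * κ (i1 I) := by rw [← h.mul _ m1 _ m1, ← map_mul, h.II, i1_neg]
        rw [l.neg, congrArg (br (κ t0)) e5, br_mul (h.cz m1) (h.cz m1), ← hA, ← map_mul, e4, map_one]
    obtain ⟨ρ, hρ⟩ := lf_split (π := π.comp 𝐂[oddCore 𝐳[κ t0]].subtype)
      (fun g hg => mem_center_iff.2 fun a => Subtype.ext (a.2 _ ((QuotientGroup.eq_one_iff _).1 hg)).symm)
      x.inj h4 (fun A => let ⟨g, hg, e⟩ := top.ge (mem_top A); ⟨⟨g, hg⟩, e⟩) fun h9 => by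
        have m := dd_AA h.mD false
        obtain ⟨n, hn⟩ := h.two_el m
        obtain ⟨M, hM⟩ := x.actG (n := n) (by
          rw [bπ m, ← map_pow, ← map_one π]; exact congrArg π (Subtype.ext hn)) ((l.nr _ m).2 rfl)
        exact ⟨⟨_, cO m (hD (by rwa [← Nat.card_eq_fintype_card]))⟩, M, bπ m ▸ hM, l.out M hM⟩
    exact ⟨(Subgroup.subtype _).comp ρ, fun A => (ρ A).2, hρ, lf_eq h4.le⟩
  have cj : ∀ c A, π (cjh c ρ A) = π c * φ A * (π c)⁻¹ := fun c A => by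
    rw [cjh_apply, map_mul, map_mul, map_inv, r2]
  have eq : ∀ (c : 𝐳[κ t0]) (α : SL(2, K) →* SL(2, K)), (∀ A, π c * φ A * (π c)⁻¹ = φ (α A)) →
      ∀ A, (c : G) * ρ A * (c : G)⁻¹ = ρ (α A) := fun c α e A => congrArg Subtype.val
    (U (φ := cjh c ρ) (ψ := ρ.comp α) (fun A => nm.conj_mem _ (r1 A) c) (fun A => r1 _)
      (fun A => (cj c A).trans ((e A).trans (r2 _).symm)) A)
  have eq' : ∀ (c : 𝐳[κ t0]) A B, (c : G) * ρ A * (c : G)⁻¹ = ρ B → π c * φ A * (π c)⁻¹ = φ B := fun c A B e => by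
    rw [← cj, ← r2]; exact congrArg π (Subtype.ext e)
  have tw : ∀ A k, k ∈ AA Γ → φ A = br (κ t0) (κ k) → (ρ A : G) = κ k := fun A k hk e => by
    obtain ⟨n, hn⟩ := h.two_el hk
    have hn' : (⟨_, mz hk⟩ : 𝐳[κ t0]) ^ 2 ^ n = 1 := Subtype.ext hn
    rw [bπ hk] at e
    exact congrArg Subtype.val (lf_two (g := ⟨_, mz hk⟩) ((r2 A).trans e).symm (r1 A) hn' (n := n) (by
      rw [← map_pow, show A ^ 2 ^ n = 1 from x.inj (by rw [map_pow, e, ← map_pow, hn', map_one, map_one]),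
        map_one])).symm
  have ng := tw _ _ h.t0_AA l.neg
  have bw := bπ (ws_AA (Γ := Γ))
  have mc : ∀ {c}, Commute c (ρ (-1) : G) → c ∈ 𝐳[κ t0] := fun hc => mem_cent.2 (ng ▸ hc.symm)
  have ce : ∀ c : 𝐳[κ t0], Ce (𝐳[κ t0].subtype.comp ρ) c → Ce φ (π c) := fun c e A =>
    r2 A ▸ Commute.map (show Commute c (ρ A) from Subtype.ext (e A)) π
  have ce' : ∀ c : 𝐳[κ t0], Ce (cjh (κ ws) (𝐳[κ t0].subtype.comp ρ)) c → Ce (cjh (br (κ t0) (κ ws)) φ) (π c) :=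
    fun c e A => by
      have := Commute.map (show Commute c (cjh ⟨_, mz ws_AA⟩ ρ A) from Subtype.ext (e A)) π
      rwa [cj, ← bw] at this
  have od : ∀ c : 𝐳[κ t0], π c = 1 → c.1 ∈ oc 𝐳[κ t0] := fun c e => ⟨c, (QuotientGroup.eq_one_iff _).1 e, rfl⟩
  have od1 : ∀ c : 𝐳[κ t0], π c = 1 → c.1 * c = 1 → c.1 = 1 := fun c e r =>
    FW.eq_one_of_odd (k := 1) (Lyons.odd_orderOf (odd_oc _) (od c e)) (by rw [pow_one, sq, r])
  refine ⟨𝐳[κ t0].subtype.comp ρ, ⟨x.odd, fun A B e => x.inj (by rw [← r2, ← r2, Subtype.ext e]), h.ww,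
    (congrArg _ ng).mpr (h.cz ws_AA), fun A B => ?_, fun A B e => ?_, fun c hc => ?_, fun c M σ n e a => ?_, fun c o c1 c2 => ?_,
    fun c cc c1 c2 => ?_⟩, ⟨ng, fun X hX => (l.l1 X hX).imp fun A => tw A _ (i1_AA.2 hX), fun k hk ⟨A, e⟩ => ?_,
    fun k hk => ?_, fun M a => l.out M fun A => ?_⟩, fun o ⟨o', ho, e⟩ A => ?_⟩
  · exact (mul_inv_eq_iff_eq_mul.1 (eq (cjh ⟨_, mz ws_AA⟩ ρ B) (MonoidHom.id _)
      (fun A => by rw [cj, ← bw]; exact mul_inv_eq_iff_eq_mul.2 (x.comm A B).symm.eq) A)).symm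
  · exact x.inter A B (by rw [← r2, show ρ A = cjh ⟨_, mz ws_AA⟩ ρ B from Subtype.ext e, cj, bw]; rfl)
  · rcases x.act (π ⟨c, mc hc⟩) (x.cen _) with ⟨M, σ, e⟩ | ⟨M, σ, e⟩
    · exact Or.inl ⟨M, σ, eq ⟨c, mc hc⟩ ((cg M).comp (fm σ)) e⟩
    · have := eq (⟨_, mz ws_AA⟩ * ⟨c, mc hc⟩) ((cg M).comp (fm σ)) (by rw [map_mul, ← bw]; exact e)
      exact Or.inr ⟨M, σ, this⟩
  · exact x.lin (π ⟨c, mc a.comm_j⟩) M σ n (by rw [← map_pow, ← map_one π]; exact congrArg π (Subtype.ext e))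
      fun A => eq' _ _ _ (a A)
  · have := od ⟨c, mc (c1 _)⟩ (x.ker' (o.of_dvd_nat ((orderOf_map_dvd π _).trans (orderOf_mk _ _).dvd))
      (ce _ c1) (ce' _ c2))
    exact (congrArg (fun z => c ∈ oc 𝐳[z]) ng).mpr this
  · refine (x.uq (π ⟨c, mc (c1 _)⟩) (by rw [← map_mul, ← map_one π]; exact congrArg π (Subtype.ext cc))
      (ce _ c1) (ce' _ c2)).imp (fun e => od1 _ e cc) fun e => ?_
    have zz : (ρ (-1) : G) * ρ (-1) = 1 := by rw [ng, h.zz]
    have := od1 (⟨c, mc (c1 _)⟩ * ρ (-1)) (by rw [map_mul, e, r2, x.zz]) (by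
      change c * ρ (-1) * (c * ρ (-1)) = 1
      rw [← (show Commute c (ρ (-1) : G) from c1 _).mul_mul_mul_comm, cc, zz, mul_one])
    exact (eq_inv_of_mul_eq_one_left this).trans (inv_eq_of_mul_eq_one_left zz)
  · exact l.l2 k hk ⟨A, by rw [← r2, bπ hk]; exact congrArg π (Subtype.ext e)⟩
  · rw [← l.nr k hk, bπ hk]
    exact ⟨fun ⟨M, σ, a⟩ => ⟨M, σ, fun A => eq' ⟨_, mz hk⟩ _ _ (a A)⟩,
      fun ⟨M, σ, a⟩ => ⟨M, σ, eq ⟨_, mz hk⟩ ((cg M).comp (fm σ)) a⟩⟩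
  · rw [bπ (dd_AA h.mD false)]
    exact eq' _ _ _ (a A)
  · exact e ▸ congrArg Subtype.val (r1 A o' ho)

end Cfsg.Agent.L4P
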